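import Mathlib

/-!
The relations of the first three groups of the presentation on a, b, c, d, e, s, t.
-/

set_option autoImplicit false

namespace H22Th

variable {G : Type*} [Group G]

/-- relations of the groups (1), (2), (3) -/
structure Rels (a b c d e s t : G) : Prop where
  aa : a * a = 1
  bb : b * b = 1
  cc : c * c = 1
  dd : d * d = 1
  ee : e * e = 1
  ab : (a * b) ^ 3 = 1
  ae : (a * e) ^ 2 = 1
  bc : (b * c) ^ 3 = 1
  bd : (b * d) ^ 2 = 1
  be : (b * e) ^ 2 = 1
  acd : a = (c * d) ^ 4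
  ce : (c * e) ^ 2 = 1
  de : (d * e) ^ 3 = 1
  bcde : (b * c * d * e) ^ 8 = 1
  s7 : s ^ 7 = 1
  sa : s * a = a * s
  sb : s * b = b * s
  sc : s * c = c * s
  sd : (s * d) ^ 2 = 1
  es : e⁻¹ * s⁻¹ * e * s = (s ^ 3)⁻¹ * e * s ^ 3
  t3 : t ^ 3 = 1
  ta : t * a = a * t
  tb : t * b = b * t
  tc : t * c = c * t
  td : t * d = d * t
  te : t * e = e * t
  ts : t⁻¹ * s * t = s ^ 2

/-- the letters a, b, c, d, e, sd of the coset tables -/
def letters (a b c d e s : G) : ℕ → G := fun i =>
  if i = 0 then a else if i = 1 then b else if i = 2 then c else if i = 3 then d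
  else if i = 4 then e else if i = 5 then s * d else 1

end H22Th
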