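import Mathlib
import Cfsg.Agent.H22.Th.ThT1.P0

/-!
A checked coset table (generated data).
-/

set_option autoImplicit false
set_option maxRecDepth 100000
set_option linter.all false
set_option Elab.async false

namespace H22Th

open H93
namespace ThT1

open Coset

noncomputable section

attribute [local irreducible] allRange Data.edgeOK Data.edgeFast

theorem tables : Tables data where
  pos := by decide
  edges := edges_of_fast fun g hg => by
    match g, hg with
    | 0, _ => exact edge0_0
    | 1, _ => exact edge1_0
    | 2, _ => exact edge2_0
    | 3, _ => exact edge3_0
    | 4, _ => exact edge4_0
    | k + 5, h => exact absurd h (by show ¬ k + 5 < 5; omega)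
  tree := treeRow_0
  letters := by decide +kernel
  subfix := by decide +kernel

end

end ThT1
end H22Th
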