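import Mathlib
import Cfsg.Agent.H22.Th.ThT2.P0
import Cfsg.Agent.H22.Th.ThT2.P1

/-!
A checked coset table (generated data).
-/

set_option autoImplicit false
set_option maxRecDepth 100000
set_option linter.all false
set_option Elab.async false

namespace H22Th

open H93
namespace ThT2

open Coset

noncomputable section

attribute [local irreducible] allRange Data.edgeOK Data.edgeFast

theorem edge0 : data.edgesFast 0 0 17472 = true :=
  (allRange_glue (allRange_glue (allRange_glue (allRange_glue (allRange_glue (allRange_glue (allRange_glue (allRange_glue (allRange_glue (allRange_glue (allRange_glue (allRange_glue edge0_0 edge0_1) edge0_2) edge0_3) edge0_4) edge0_5) edge0_6) edge0_7) edge0_8) edge0_9) edge0_10) edge0_11) edge0_12)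

theorem edge1 : data.edgesFast 1 0 17472 = true :=
  (allRange_glue (allRange_glue (allRange_glue (allRange_glue (allRange_glue (allRange_glue (allRange_glue (allRange_glue (allRange_glue (allRange_glue (allRange_glue (allRange_glue edge1_0 edge1_1) edge1_2) edge1_3) edge1_4) edge1_5) edge1_6) edge1_7) edge1_8) edge1_9) edge1_10) edge1_11) edge1_12)

theorem edge2 : data.edgesFast 2 0 17472 = true :=
  (allRange_glue (allRange_glue (allRange_glue (allRange_glue (allRange_glue (allRange_glue (allRange_glue (allRange_glue (allRange_glue (allRange_glue (allRange_glue (allRange_glue edge2_0 edge2_1) edge2_2) edge2_3) edge2_4) edge2_5) edge2_6) edge2_7) edge2_8) edge2_9) edge2_10) edge2_11) edge2_12)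

theorem edge3 : data.edgesFast 3 0 17472 = true :=
  (allRange_glue (allRange_glue (allRange_glue (allRange_glue (allRange_glue (allRange_glue (allRange_glue (allRange_glue (allRange_glue (allRange_glue (allRange_glue (allRange_glue edge3_0 edge3_1) edge3_2) edge3_3) edge3_4) edge3_5) edge3_6) edge3_7) edge3_8) edge3_9) edge3_10) edge3_11) edge3_12)

theorem edge4 : data.edgesFast 4 0 17472 = true :=
  (allRange_glue (allRange_glue (allRange_glue (allRange_glue (allRange_glue (allRange_glue (allRange_glue (allRange_glue (allRange_glue (allRange_glue (allRange_glue (allRange_glue edge4_0 edge4_1) edge4_2) edge4_3) edge4_4) edge4_5) edge4_6) edge4_7) edge4_8) edge4_9) edge4_10) edge4_11) edge4_12)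

theorem edge5 : data.edgesFast 5 0 17472 = true :=
  (allRange_glue (allRange_glue (allRange_glue (allRange_glue (allRange_glue (allRange_glue (allRange_glue (allRange_glue (allRange_glue (allRange_glue (allRange_glue (allRange_glue edge5_0 edge5_1) edge5_2) edge5_3) edge5_4) edge5_5) edge5_6) edge5_7) edge5_8) edge5_9) edge5_10) edge5_11) edge5_12)

theorem treeRow : treeOK data 0 17472 = true :=
  (allRange_glue (allRange_glue treeRow_0 treeRow_1) treeRow_2)

theorem tables : Tables data where
  pos := by decide
  edges := edges_of_fast fun g hg => by
    match g, hg with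
    | 0, _ => exact edge0
    | 1, _ => exact edge1
    | 2, _ => exact edge2
    | 3, _ => exact edge3
    | 4, _ => exact edge4
    | 5, _ => exact edge5
    | k + 6, h => exact absurd h (by show ¬ k + 6 < 6; omega)
  tree := treeRow
  letters := by decide +kernel
  subfix := by decide +kernel

end

end ThT2
end H22Th
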