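import Mathlib
import Cfsg.Agent.H93.GroupOrder
import Cfsg.Agent.H22.Th.Rels
import Cfsg.Agent.H22.Th.ThT0
import Cfsg.Agent.H22.Th.ThT1
import Cfsg.Agent.H22.Th.ThT2

/-!
The subgroup generated by a, b, c, d, e, s, t has order at most 634023936.
-/

set_option autoImplicit false
set_option maxRecDepth 100000

namespace H22Th

open H93.Coset (ev)

variable {G : Type*} [Group G] {a b c d e s t : G}

namespace Rels

variable (h : Rels a b c d e s t)
include h

theorem gd : s * d * d = s := by rw [mul_assoc, h.dd, mul_one]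

theorem dg : d * (s * d) = s⁻¹ := by
  refine eq_inv_of_mul_eq_one_left ?_
  calc d * (s * d) * s = d * ((s * d) * (s * d)) * d := by
        rw [show d * (s * d * (s * d)) * d = d * (s * d) * s * (d * d) by group, h.dd, mul_one]
    _ = 1 := by rw [← pow_two, h.sd, mul_one, h.dd]

theorem inv_d : d⁻¹ = d := inv_eq_of_mul_eq_one_left h.dd
theorem inv_e : e⁻¹ = e := inv_eq_of_mul_eq_one_left h.ee

theorem letters_sq {i : ℕ} (hi : i < 6) :
    letters a b c d e s i * letters a b c d e s i = 1 := by
  have := h.sd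
  rw [pow_two] at this
  interval_cases i <;> simp [letters, h.aa, h.bb, h.cc, h.dd, h.ee, this]

theorem comm_sq {x y : G} (hxy : x * y = y * x) (hy : y * y = 1) : x⁻¹ * y * x * y = 1 := by
  rw [mul_assoc x⁻¹ y x, ← hxy, ← mul_assoc x⁻¹ x y, inv_mul_cancel, one_mul, hy]

theorem rels_two : ∀ w ∈ ThT2.data.words.take ThT2.data.nrel,
    ev (letters a b c d e s) w = 1 := by
  have g2 := h.sd
  rw [pow_two] at g2
  have e1 : ∀ x : G, s * d * d * x = s * x := fun x => by rw [h.gd]
  intro w hw
  simp only [ThT2.data, ThT2.words, List.take_succ_cons, List.take_zero, List.mem_cons,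
    List.not_mem_nil, or_false] at hw
  rcases hw with rfl | rfl | rfl | rfl | rfl | rfl | rfl | rfl | rfl | rfl | rfl | rfl | rfl |
    rfl | rfl | rfl | rfl | rfl | rfl | rfl
  all_goals simp only [ev, letters, one_mul, ↓reduceIte, OfNat.ofNat_ne_zero,
    OfNat.ofNat_ne_one, one_ne_zero, Nat.reduceEqDiff]
  · exact h.aa
  · exact h.bb
  · exact h.cc
  · exact h.dd
  · exact h.ee
  · exact g2
  · simpa [pow_succ, mul_assoc] using h.ab
  · simpa [pow_succ, mul_assoc] using h.ae
  · simpa [pow_succ, mul_assoc] using h.bc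
  · simpa [pow_succ, mul_assoc] using h.bd
  · simpa [pow_succ, mul_assoc] using h.be
  · have : a * (d * c) ^ 4 = 1 := by
      rw [show d * c = (c * d)⁻¹ by rw [mul_inv_rev, h.inv_d,
        show c⁻¹ = c from inv_eq_of_mul_eq_one_left h.cc], inv_pow, ← h.acd, mul_inv_cancel]
    simpa [pow_succ, mul_assoc] using this
  · simpa [pow_succ, mul_assoc] using h.ce
  · simpa [pow_succ, mul_assoc] using h.de
  · simpa [pow_succ, mul_assoc] using h.bcde
  · rw [h.gd]
    simpa [pow_succ, mul_assoc, e1, h.gd] using h.s7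
  · calc d * (s * d) * a * (s * d) * d * a = d * (s * d) * a * (s * d * d) * a := by group
      _ = 1 := by rw [h.dg, h.gd, h.comm_sq h.sa h.aa]
  · calc d * (s * d) * b * (s * d) * d * b = d * (s * d) * b * (s * d * d) * b := by group
      _ = 1 := by rw [h.dg, h.gd, h.comm_sq h.sb h.bb]
  · calc d * (s * d) * c * (s * d) * d * c = d * (s * d) * c * (s * d * d) * c := by group
      _ = 1 := by rw [h.dg, h.gd, h.comm_sq h.sc h.cc]
  · have r := h.es
    rw [← mul_inv_eq_one, h.inv_e] at r
    calc e * d * (s * d) * e * d * (s * d) * d * (s * d) * e * (s * d) * d * (s * d) * d * (s * d) * d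
        = e * (d * (s * d)) * e * (d * (s * d) * (d * (s * d))) * e *
            ((s * d * d) * (s * d * d) * (s * d * d)) := by group
      _ = e * s⁻¹ * e * (s⁻¹ * s⁻¹) * e * (s * s * s) := by rw [h.gd, h.dg]
      _ = 1 := by
          rw [← r]
          simp [pow_succ, mul_inv_rev, mul_assoc, h.inv_e]

theorem rels_one : ∀ w ∈ ThT1.data.words.take ThT1.data.nrel,
    ev (letters a b c d e s) w = 1 := by
  intro w hw
  refine h.rels_two w ?_
  revert hw w
  decide

theorem rels_zero : ∀ w ∈ ThT0.data.words.take ThT0.data.nrel,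
    ev (letters a b c d e s) w = 1 := by
  intro w hw
  refine h.rels_two w ?_
  revert hw w
  decide

theorem bound_abcd :
    Finite (Subgroup.closure ({a, b, c, d} : Set G)) ∧
      Nat.card (Subgroup.closure ({a, b, c, d} : Set G)) ≤ 336 := by
  have hset : (letters a b c d e s) '' {g | g < 4} = {a, b, c, d} := by
    ext x
    constructor
    · rintro ⟨i, hi, rfl⟩
      simp only [Set.mem_setOf_eq] at hi
      interval_cases i <;> simp [letters]
    · rintro (rfl | rfl | rfl | rfl)
      exacts [⟨0, by simp [letters]⟩, ⟨1, by simp [letters]⟩, ⟨2, by simp [letters]⟩,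
        ⟨3, by simp [letters]⟩]
  have h1 := H93.Coset.card_le_of_table (gen := letters a b c d e s) (L := (⊥ : Subgroup G))
    ThT0.tables (fun g hg => h.letters_sq (lt_of_lt_of_le hg (by decide)))
    h.rels_zero (by simp [ThT0.data, ThT0.words])
  have hn : ThT0.data.ng = 4 := rfl
  rw [hn, hset, show ThT0.data.n = 336 from rfl, Subgroup.card_bot, mul_one] at h1
  exact h1

theorem bound_abcde :
    Finite (Subgroup.closure ({a, b, c, d, e} : Set G)) ∧
      Nat.card (Subgroup.closure ({a, b, c, d, e} : Set G)) ≤ 12096 := by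
  obtain ⟨hf, hc⟩ := h.bound_abcd
  have hset : (letters a b c d e s) '' {g | g < 5} = {a, b, c, d, e} := by
    ext x
    constructor
    · rintro ⟨i, hi, rfl⟩
      simp only [Set.mem_setOf_eq] at hi
      interval_cases i <;> simp [letters]
    · rintro (rfl | rfl | rfl | rfl | rfl)
      exacts [⟨0, by simp [letters]⟩, ⟨1, by simp [letters]⟩, ⟨2, by simp [letters]⟩,
        ⟨3, by simp [letters]⟩, ⟨4, by simp [letters]⟩]
  have h1 := H93.Coset.card_le_of_table (gen := letters a b c d e s)
    (L := Subgroup.closure ({a, b, c, d} : Set G))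
    ThT1.tables (fun g hg => h.letters_sq (lt_of_lt_of_le hg (by decide)))
    h.rels_one (by
      intro w hw
      simp only [ThT1.data, ThT1.words, List.drop_succ_cons, List.drop_zero, List.mem_cons,
        List.not_mem_nil, or_false] at hw
      rcases hw with rfl | rfl | rfl | rfl <;>
        exact Subgroup.subset_closure (by simp [H93.Coset.ev, letters]))
  have hn : ThT1.data.ng = 5 := rfl
  rw [hn, hset] at h1
  exact ⟨h1.1, h1.2.trans ((Nat.mul_le_mul (le_refl _) hc).trans (by decide))⟩

theorem bound_N0 :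
    Finite (Subgroup.closure ({a, b, c, d, e, s} : Set G)) ∧
      Nat.card (Subgroup.closure ({a, b, c, d, e, s} : Set G)) ≤ 211341312 := by
  obtain ⟨hf, hc⟩ := h.bound_abcde
  have hset : Subgroup.closure ((letters a b c d e s) '' {g | g < 6}) =
      Subgroup.closure ({a, b, c, d, e, s} : Set G) := by
    have hd : d ∈ Subgroup.closure ({a, b, c, d, e, s} : Set G) :=
      Subgroup.subset_closure (by simp)
    have hs : s ∈ Subgroup.closure ({a, b, c, d, e, s} : Set G) :=
      Subgroup.subset_closure (by simp)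
    apply le_antisymm <;> rw [Subgroup.closure_le]
    · rintro x ⟨i, hi, rfl⟩
      simp only [Set.mem_setOf_eq] at hi
      interval_cases i
      all_goals first
        | exact mul_mem hs hd
        | exact Subgroup.subset_closure (by simp [letters])
    · have hl : ∀ i < 6, letters a b c d e s i ∈
          Subgroup.closure ((letters a b c d e s) '' {g | g < 6}) :=
        fun i hi => Subgroup.subset_closure ⟨i, hi, rfl⟩
      rintro x (rfl | rfl | rfl | rfl | rfl | rfl)
      · exact hl 0 (by norm_num)
      · exact hl 1 (by norm_num)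
      · exact hl 2 (by norm_num)
      · exact hl 3 (by norm_num)
      · exact hl 4 (by norm_num)
      · have := mul_mem (hl 5 (by norm_num)) (hl 3 (by norm_num))
        simpa [letters, mul_assoc, h.dd] using this
  have h1 := H93.Coset.card_le_of_table (gen := letters a b c d e s)
    (L := Subgroup.closure ({a, b, c, d, e} : Set G))
    ThT2.tables (fun g hg => h.letters_sq (lt_of_lt_of_le hg (by decide)))
    h.rels_two (by
      intro w hw
      simp only [ThT2.data, ThT2.words, List.drop_succ_cons, List.drop_zero, List.mem_cons,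
        List.not_mem_nil, or_false] at hw
      rcases hw with rfl | rfl | rfl | rfl | rfl <;>
        exact Subgroup.subset_closure (by simp [H93.Coset.ev, letters]))
  have hn : ThT2.data.ng = 6 := rfl
  have hN : ThT2.data.n = 17472 := rfl
  rw [hn, hset, hN] at h1
  exact ⟨h1.1, h1.2.trans ((Nat.mul_le_mul (le_refl _) hc).trans (by norm_num))⟩

/-- the bound for the subgroup on all seven letters -/
theorem bound_N :
    Finite (Subgroup.closure ({a, b, c, d, e, s, t} : Set G)) ∧
      Nat.card (Subgroup.closure ({a, b, c, d, e, s, t} : Set G)) ≤ 634023936 := by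
  obtain ⟨hf, hc⟩ := h.bound_N0
  set M := Subgroup.closure ({a, b, c, d, e, s} : Set G) with hM
  have hfix : ∀ x : G, t * x = x * t → t⁻¹ * x * t = x := by
    intro x hx; rw [mul_assoc, ← hx, inv_mul_cancel_left]
  have hgen : ∀ x ∈ M, t⁻¹ * x * t ∈ M := by
    intro x hx
    induction hx using Subgroup.closure_induction with
    | mem x hx =>
      rcases hx with rfl | rfl | rfl | rfl | rfl | rfl
      · rw [hfix _ h.ta]; exact Subgroup.subset_closure (by simp)
      · rw [hfix _ h.tb]; exact Subgroup.subset_closure (by simp)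
      · rw [hfix _ h.tc]; exact Subgroup.subset_closure (by simp)
      · rw [hfix _ h.td]; exact Subgroup.subset_closure (by simp)
      · rw [hfix _ h.te]; exact Subgroup.subset_closure (by simp)
      · rw [h.ts]; exact pow_mem (Subgroup.subset_closure (by simp)) _
    | one => simp
    | mul x y _ _ hx hy =>
      rw [show t⁻¹ * (x * y) * t = (t⁻¹ * x * t) * (t⁻¹ * y * t) by group]
      exact mul_mem hx hy
    | inv x _ hx =>
      rw [show t⁻¹ * x⁻¹ * t = (t⁻¹ * x * t)⁻¹ by group]
      exact inv_mem hx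
  have hpow : ∀ (n : ℕ), ∀ x ∈ M, (t ^ n)⁻¹ * x * t ^ n ∈ M := by
    intro n
    induction n with
    | zero => simp
    | succ n ih =>
      intro x hx
      rw [show (t ^ (n + 1))⁻¹ * x * t ^ (n + 1) = t⁻¹ * ((t ^ n)⁻¹ * x * t ^ n) * t by
        rw [pow_succ]; group]
      exact hgen _ (ih x hx)
  let K : Subgroup G :=
  { carrier := {x | ∃ n : ℕ, ∃ m ∈ M, x = t ^ n * m}
    one_mem' := ⟨0, 1, one_mem M, by simp⟩
    mul_mem' := by
      rintro x y ⟨n, m, hm, rfl⟩ ⟨k, l, hl, rfl⟩
      exact ⟨n + k, ((t ^ k)⁻¹ * m * t ^ k) * l, mul_mem (hpow k m hm) hl, by rw [pow_add]; group⟩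
    inv_mem' := by
      rintro x ⟨n, m, hm, rfl⟩
      refine ⟨2 * n, (t ^ (2 * n))⁻¹ * m⁻¹ * t ^ (2 * n), hpow _ _ (inv_mem hm), ?_⟩
      have e3 : (t ^ n)⁻¹ = t ^ (2 * n) := by
        refine inv_eq_of_mul_eq_one_right ?_
        rw [← pow_add, show n + 2 * n = 3 * n by ring, pow_mul, h.t3, one_pow]
      rw [mul_inv_rev, e3]
      group }
  have hle : Subgroup.closure ({a, b, c, d, e, s, t} : Set G) ≤ K := by
    rw [Subgroup.closure_le]
    have hmem : ∀ x ∈ M, x ∈ K := fun x hx => ⟨0, x, hx, by simp⟩
    rintro x (rfl | rfl | rfl | rfl | rfl | rfl | rfl)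
    rotate_right
    · exact ⟨1, 1, one_mem M, by simp⟩
    all_goals exact hmem _ (Subgroup.subset_closure (by simp))
  let f : Fin 3 × M → K := fun p => ⟨t ^ (p.1 : ℕ) * p.2, ⟨_, _, p.2.2, rfl⟩⟩
  have hsurj : Function.Surjective f := by
    rintro ⟨x, n, m, hm, rfl⟩
    refine ⟨(⟨n % 3, Nat.mod_lt _ (by norm_num)⟩, ⟨m, hm⟩), Subtype.ext ?_⟩
    show t ^ (n % 3) * m = t ^ n * m
    congr 1
    conv_rhs => rw [← Nat.div_add_mod n 3, pow_add, pow_mul, h.t3, one_pow, one_mul]
  haveI : Finite K := Finite.of_surjective f hsurj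
  haveI := Finite.of_injective _ (Subgroup.inclusion_injective hle)
  refine ⟨this, ?_⟩
  calc Nat.card (Subgroup.closure ({a, b, c, d, e, s, t} : Set G)) ≤ Nat.card K :=
        Nat.card_le_card_of_injective _ (Subgroup.inclusion_injective hle)
    _ ≤ Nat.card (Fin 3 × M) := Nat.card_le_card_of_surjective f hsurj
    _ ≤ 634023936 := by rw [Nat.card_prod, Nat.card_fin]; omega

end Rels

end H22Th
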