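import Cfsg.Agent.H22.Th.Pres
import Cfsg.Agent.H22.Th.Mem.Data
import Cfsg.Agent.H93.Th.Rels

/-!
Conjugates by `u` of seven elements of `⟨a, b, c, d, e, s, t⟩` lie in that subgroup.
-/

set_option autoImplicit false
set_option maxRecDepth 100000

namespace H22Th

open Cfsg H93.Th

theorem thX_eq (g : Spor.Th.Gen) : thX g = im (FreeGroup.of g) := rfl

/-- letters a c d e s s⁻¹ t t⁻¹ u u⁻¹ of the certificate as codes -/
def memCode (i : ℕ) : ℕ := [2, 4, 5, 6, 7, 8, 9, 10, 0, 1].getD i 11

/-- the value of a letter of the certificate -/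
def memVal (i : ℕ) : Spor.Th := code (memCode i)

theorem rels_im : Rels (im Spor.Th.a) (im Spor.Th.b) (im Spor.Th.c) (im Spor.Th.d) (im Spor.Th.e)
    (im Spor.Th.s) (im Spor.Th.t) := rels_th

theorem memVal_inv (g : ℕ) : memVal (Mem.cert.flip g) = (memVal g)⁻¹ := by
  match g with
  | 0 => simp [memVal, memCode, Mem.cert, H52.TCert.Cert.flip, code, inv_a]
  | 1 => simp [memVal, memCode, Mem.cert, H52.TCert.Cert.flip, code, inv_c]
  | 2 => simp [memVal, memCode, Mem.cert, H52.TCert.Cert.flip, code, inv_d]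
  | 3 => simp [memVal, memCode, Mem.cert, H52.TCert.Cert.flip, code, inv_e]
  | 4 => simp [memVal, memCode, Mem.cert, H52.TCert.Cert.flip, code]
  | 5 => simp [memVal, memCode, Mem.cert, H52.TCert.Cert.flip, code]
  | 6 => simp [memVal, memCode, Mem.cert, H52.TCert.Cert.flip, code]
  | 7 => simp [memVal, memCode, Mem.cert, H52.TCert.Cert.flip, code]
  | 8 => simp [memVal, memCode, Mem.cert, H52.TCert.Cert.flip, code]
  | 9 => simp [memVal, memCode, Mem.cert, H52.TCert.Cert.flip, code]
  | 10 => simp [memVal, memCode, Mem.cert, H52.TCert.Cert.flip, code]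
  | k + 11 => simp [memVal, memCode, Mem.cert, H52.TCert.Cert.flip, code]

theorem memVal_rels : ∀ w ∈ Mem.relators, (w.map memVal).prod = 1 := by
  have key : ∀ w : List ℕ, w.map memCode ∈ urels → (w.map memVal).prod = 1 := by
    intro w hw
    have := urels_one hw
    rwa [List.map_map] at this
  have h := rels_im
  have aa := h.aa
  have cc := h.cc
  have dd := h.dd
  have ee := h.ee
  have cd4 : im Spor.Th.a * (im Spor.Th.d * im Spor.Th.c) ^ 4 = 1 := by
    rw [show im Spor.Th.d * im Spor.Th.c = (im Spor.Th.c * im Spor.Th.d)⁻¹ by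
      rw [mul_inv_rev, inv_d, inv_c], inv_pow, ← h.acd, mul_inv_cancel]
  have cq : ∀ {u v : Spor.Th}, u * v = v * u → v * v = 1 → u⁻¹ * (v * (u * v)) = 1 := by
    intro u v huv hv
    rw [huv, ← mul_assoc v v u, hv, one_mul, inv_mul_cancel]
  have es := h.es
  rw [← mul_inv_eq_one, inv_e] at es
  have sd := h.sd
  have ts := h.ts
  rw [← mul_inv_eq_one] at ts
  intro w hw
  simp only [Mem.relators, List.mem_cons, List.not_mem_nil, or_false] at hw
  rcases hw with rfl | rfl | rfl | rfl | rfl | rfl | rfl | rfl | rfl | rfl | rfl | rfl | rfl |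
    rfl | rfl | rfl | rfl | rfl | rfl | rfl | rfl | rfl | rfl | rfl | rfl | rfl | rfl | rfl |
    rfl | rfl | rfl | rfl | rfl | rfl | rfl | rfl
  all_goals first
    | (refine key _ ?_; decide)
    | (simp only [memVal, memCode, List.map_cons, List.map_nil, List.prod_cons, List.prod_nil,
        List.getD_cons_zero, List.getD_cons_succ, code, mul_one]
       first
        | exact aa
        | exact cc
        | exact dd
        | exact ee
        | exact mul_inv_cancel _
        | exact inv_mul_cancel _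
        | exact cq h.sa aa
        | exact cq h.sc cc
        | exact cq h.ta aa
        | exact cq h.tc cc
        | exact cq h.td dd
        | exact cq h.te ee
        | simpa [pow_succ, mul_assoc] using h.ae
        | simpa [pow_succ, mul_assoc] using h.ce
        | simpa [pow_succ, mul_assoc] using h.de
        | simpa [pow_succ, mul_assoc] using cd4
        | simpa [pow_succ, mul_assoc] using h.s7
        | simpa [pow_succ, mul_assoc] using sd
        | simpa [pow_succ, mul_assoc] using h.t3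
        | simpa [pow_succ, mul_assoc, inv_e] using es
        | simpa [pow_succ, mul_assoc] using ts)
    | simp

theorem memValid : Mem.cert.Valid memVal iota.range := by
  refine ⟨rfl, memVal_inv, memVal_rels, ?_⟩
  intro g hg
  simp only [Mem.cert, List.mem_cons, List.not_mem_nil, or_false] at hg
  rw [iota_range]
  rcases hg with rfl | rfl | rfl | rfl | rfl | rfl <;>
    exact Subgroup.subset_closure (by simp [memVal, memCode, code, thX_eq])

theorem mem_dcd : (im Spor.Th.u)⁻¹ *
    (im Spor.Th.d * im Spor.Th.c * im Spor.Th.d) * im Spor.Th.u ∈ iota.range := by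
  have hall : ∀ k, k < Mem.cert.num →
      H52.TCert.Cert.Holds Mem.cert Mem.certPar memVal iota.range k := by
    intro k
    refine Nat.strong_induction_on
      (p := fun k => k < Mem.cert.num →
        H52.TCert.Cert.Holds Mem.cert Mem.certPar memVal iota.range k) k ?_
    intro m ih hm
    exact H52.TCert.Cert.checkFact_holds memValid (fun i hi => ih i hi (hi.trans hm))
      (List.all_eq_true.mp Mem.cert_facts m (List.mem_range.mpr hm))
  have hw : Mem.cert.walk Mem.cert.num Mem.path 0 = some (0, [9, 2, 1, 2, 8]) := by decide +kernel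
  have h := H52.TCert.Cert.walk_holds memValid hall Mem.path 0 0 [9, 2, 1, 2, 8] hw
  rw [H52.TCert.Cert.pt_zero] at h
  have h2 : (([9, 2, 1, 2, 8] : List ℕ).map memVal).prod⁻¹ ∈ iota.range := by
    have h3 : (((([9, 2, 1, 2, 8] : List ℕ).map memVal).prod⁻¹ * 1 : Spor.Th) :
        Spor.Th ⧸ iota.range) = ((1 : Spor.Th) : Spor.Th ⧸ iota.range) := h
    rw [QuotientGroup.eq] at h3
    simpa using inv_mem h3
  simpa [memVal, memCode, code, mul_assoc] using inv_mem h2

theorem twist_a : (im Spor.Th.u)⁻¹ * im Spor.Th.a * im Spor.Th.u = im Spor.Th.a := by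
  have h := urel1
  simp only [List.map_cons, List.map_nil, List.prod_cons, List.prod_nil, mul_one, code] at h
  simp only [← mul_assoc] at h
  rw [mul_eq_one_iff_eq_inv] at h
  rw [h, inv_a]

theorem twist_c : (im Spor.Th.u)⁻¹ * im Spor.Th.c * im Spor.Th.u = im Spor.Th.c := by
  have h := urel2
  simp only [List.map_cons, List.map_nil, List.prod_cons, List.prod_nil, mul_one, code] at h
  simp only [← mul_assoc] at h
  rw [mul_eq_one_iff_eq_inv] at h
  rw [h, inv_c]

theorem twist_e : (im Spor.Th.u)⁻¹ * im Spor.Th.e * im Spor.Th.u = im Spor.Th.e := by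
  have h := urel3
  simp only [List.map_cons, List.map_nil, List.prod_cons, List.prod_nil, mul_one, code] at h
  simp only [← mul_assoc] at h
  rw [mul_eq_one_iff_eq_inv] at h
  rw [h, inv_e]

theorem twist_t : (im Spor.Th.u)⁻¹ * im Spor.Th.t * im Spor.Th.u = (im Spor.Th.t)⁻¹ := by
  have h := urel7
  simp only [List.map_cons, List.map_nil, List.prod_cons, List.prod_nil, mul_one, code] at h
  simp only [← mul_assoc] at h
  exact mul_eq_one_iff_eq_inv.mp h

theorem twist_bacb : (im Spor.Th.u)⁻¹ *
    (im Spor.Th.b * im Spor.Th.a * im Spor.Th.c * im Spor.Th.b) * im Spor.Th.u =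
    im Spor.Th.b * im Spor.Th.a * im Spor.Th.c * im Spor.Th.b * im Spor.Th.e := by
  have h := urel5
  simp only [List.map_cons, List.map_nil, List.prod_cons, List.prod_nil, mul_one, code] at h
  apply inv_injective
  simp only [mul_inv_rev, inv_inv, inv_a, inv_b, inv_c, inv_e]
  rw [eq_comm, ← mul_inv_eq_one]
  have e : ∀ p q : Spor.Th, p * q = 1 → q * p = 1 := fun p q hpq => by
    rw [eq_inv_of_mul_eq_one_left hpq, mul_inv_cancel]
  simp only [mul_inv_rev, inv_inv, inv_a, inv_b, inv_c, inv_e]
  simp only [mul_assoc] at h ⊢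
  have h2 := congrArg (fun z => z⁻¹) h
  simp only [mul_inv_rev, inv_inv, inv_one, inv_a, inv_b, inv_c, inv_e, mul_assoc] at h2
  exact h2

theorem twist_sseSS : (im Spor.Th.u)⁻¹ *
    (im Spor.Th.s * im Spor.Th.s * im Spor.Th.e * (im Spor.Th.s)⁻¹ * (im Spor.Th.s)⁻¹) *
      im Spor.Th.u =
    im Spor.Th.s * im Spor.Th.s * im Spor.Th.e * (im Spor.Th.s)⁻¹ * (im Spor.Th.s)⁻¹ := by
  have h := urel8
  simp only [List.map_cons, List.map_nil, List.prod_cons, List.prod_nil, mul_one, code] at h
  set s := im Spor.Th.s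
  set e := im Spor.Th.e
  set u := im Spor.Th.u
  have h2 : (e * s⁻¹ * s⁻¹) * (u⁻¹ * (s * s * e * s⁻¹ * s⁻¹) * u) * (s * s) = 1 := by
    simpa [mul_assoc] using h
  calc u⁻¹ * (s * s * e * s⁻¹ * s⁻¹) * u
      = (e * s⁻¹ * s⁻¹)⁻¹ *
          ((e * s⁻¹ * s⁻¹) * (u⁻¹ * (s * s * e * s⁻¹ * s⁻¹) * u) * (s * s)) * (s * s)⁻¹ := by group
    _ = s * s * e * s⁻¹ * s⁻¹ := by rw [h2]; simp [mul_inv_rev, mul_assoc, e, inv_e]

/-- the images of the seven elements -/
theorem mem_twist {h : Spor.Th} (hh : h = im Spor.Th.a ∨ h = im Spor.Th.c ∨ h = im Spor.Th.e ∨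
    h = im Spor.Th.t ∨ h = im Spor.Th.b * im Spor.Th.a * im Spor.Th.c * im Spor.Th.b ∨
    h = im Spor.Th.s * im Spor.Th.s * im Spor.Th.e * (im Spor.Th.s)⁻¹ * (im Spor.Th.s)⁻¹ ∨
    h = im Spor.Th.d * im Spor.Th.c * im Spor.Th.d) :
    (im Spor.Th.u)⁻¹ * h * im Spor.Th.u ∈ iota.range := by
  have hg : ∀ g ∈ ({im Spor.Th.a, im Spor.Th.b, im Spor.Th.c, im Spor.Th.d, im Spor.Th.e,
      im Spor.Th.s, im Spor.Th.t} : Set Spor.Th), g ∈ iota.range := fun g hg => by
    rw [iota_range]
    exact Subgroup.subset_closure hg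
  rcases hh with rfl | rfl | rfl | rfl | rfl | rfl | rfl
  · rw [twist_a]; exact hg _ (by simp)
  · rw [twist_c]; exact hg _ (by simp)
  · rw [twist_e]; exact hg _ (by simp)
  · rw [twist_t]; exact inv_mem (hg _ (by simp))
  · rw [twist_bacb]
    exact mul_mem (mul_mem (mul_mem (mul_mem (hg _ (by simp)) (hg _ (by simp))) (hg _ (by simp)))
      (hg _ (by simp))) (hg _ (by simp))
  · rw [twist_sseSS]
    exact mul_mem (mul_mem (mul_mem (mul_mem (hg _ (by simp)) (hg _ (by simp))) (hg _ (by simp)))
      (inv_mem (hg _ (by simp)))) (inv_mem (hg _ (by simp)))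
  · exact mem_dcd

end H22Th
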