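import Cfsg.Prelude.Def_Spor_Th
import Cfsg.Agent.H77.HN.Words
import Cfsg.Agent.H22.Th.Rels

/-!
The group presented by the relations (1), (2), (3) on a, b, c, d, e, s, t, its letters and its map
to the presented Thompson group.
-/

set_option autoImplicit false

namespace H22Th

open Cfsg

/-- the defining elements of the relations -/
def relsOf {H : Type*} [Group H] (a b c d e s t : H) : List H :=
  [a * a, b * b, c * c, d * d, e * e, (a * b) ^ 3, (a * e) ^ 2, (b * c) ^ 3, (b * d) ^ 2,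
    (b * e) ^ 2, a * ((c * d) ^ 4)⁻¹, (c * e) ^ 2, (d * e) ^ 3, (b * c * d * e) ^ 8, s ^ 7,
    s * a * (a * s)⁻¹, s * b * (b * s)⁻¹, s * c * (c * s)⁻¹, (s * d) ^ 2,
    e⁻¹ * s⁻¹ * e * s * ((s ^ 3)⁻¹ * e * s ^ 3)⁻¹, t ^ 3, t * a * (a * t)⁻¹, t * b * (b * t)⁻¹,
    t * c * (c * t)⁻¹, t * d * (d * t)⁻¹, t * e * (e * t)⁻¹, t⁻¹ * s * t * (s ^ 2)⁻¹]

theorem map_relsOf {H K : Type*} [Group H] [Group K] (f : H →* K) (a b c d e s t : H) :
    (relsOf a b c d e s t).map f = relsOf (f a) (f b) (f c) (f d) (f e) (f s) (f t) := by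
  simp [relsOf]

theorem Rels.relsOf_eq {H : Type*} [Group H] {a b c d e s t : H} (h : Rels a b c d e s t) :
    ∀ r ∈ relsOf a b c d e s t, r = 1 := by
  intro r hr
  simp only [relsOf, List.mem_cons, List.not_mem_nil, or_false] at hr
  rcases hr with rfl | rfl | rfl | rfl | rfl | rfl | rfl | rfl | rfl | rfl | rfl | rfl | rfl |
    rfl | rfl | rfl | rfl | rfl | rfl | rfl | rfl | rfl | rfl | rfl | rfl | rfl | rfl
  exacts [h.aa, h.bb, h.cc, h.dd, h.ee, h.ab, h.ae, h.bc, h.bd, h.be,
    by rw [mul_inv_eq_one]; exact h.acd, h.ce, h.de, h.bcde, h.s7,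
    by rw [mul_inv_eq_one]; exact h.sa, by rw [mul_inv_eq_one]; exact h.sb,
    by rw [mul_inv_eq_one]; exact h.sc, h.sd, by rw [mul_inv_eq_one]; exact h.es, h.t3,
    by rw [mul_inv_eq_one]; exact h.ta, by rw [mul_inv_eq_one]; exact h.tb,
    by rw [mul_inv_eq_one]; exact h.tc, by rw [mul_inv_eq_one]; exact h.td,
    by rw [mul_inv_eq_one]; exact h.te, by rw [mul_inv_eq_one]; exact h.ts]

theorem rels_of_relsOf {H : Type*} [Group H] {a b c d e s t : H}
    (h : ∀ r ∈ relsOf a b c d e s t, r = 1) : Rels a b c d e s t := by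
  simp only [relsOf, List.forall_mem_cons, List.not_mem_nil, IsEmpty.forall_iff, implies_true,
    and_true, mul_inv_eq_one] at h
  obtain ⟨h1, h2, h3, h4, h5, h6, h7, h8, h9, h10, h11, h12, h13, h14, h15, h16, h17, h18, h19,
    h20, h21, h22, h23, h24, h25, h26, h27⟩ := h
  exact ⟨h1, h2, h3, h4, h5, h6, h7, h8, h9, h10, h11, h12, h13, h14, h15, h16, h17, h18, h19,
    h20, h21, h22, h23, h24, h25, h26, h27⟩

/-- the free generators -/
abbrev fg (i : Fin 7) : FreeGroup (Fin 7) := FreeGroup.of i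

/-- the relators -/
def relSet : Set (FreeGroup (Fin 7)) :=
  {r | r ∈ relsOf (fg 0) (fg 1) (fg 2) (fg 3) (fg 4) (fg 5) (fg 6)}

/-- the presented group on a, b, c, d, e, s, t -/
abbrev P : Type := PresentedGroup relSet

/-- a generator -/
def x (i : Fin 7) : P := PresentedGroup.of i

theorem rels_x : Rels (x 0) (x 1) (x 2) (x 3) (x 4) (x 5) (x 6) := by
  refine rels_of_relsOf fun r hr => ?_
  have e : ∀ i, x i = PresentedGroup.mk relSet (fg i) := fun _ => rfl
  rw [e, e, e, e, e, e, e, ← map_relsOf (PresentedGroup.mk relSet), List.mem_map] at hr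
  obtain ⟨w, hw, rfl⟩ := hr
  exact PresentedGroup.one_of_mem hw

theorem closure_x : Subgroup.closure ({x 0, x 1, x 2, x 3, x 4, x 5, x 6} : Set P) = ⊤ := by
  rw [← PresentedGroup.closure_range_of relSet]
  congr 1
  ext y
  constructor
  · rintro (rfl | rfl | rfl | rfl | rfl | rfl | rfl) <;> exact ⟨_, rfl⟩
  · rintro ⟨i, rfl⟩
    fin_cases i <;> simp [x]

/-- the letters a b c d e s s⁻¹ t t⁻¹ as elements -/
def lett {H : Type*} [Group H] (a b c d e s t : H) : ℕ → H := fun l =>
  if l = 0 then a else if l = 1 then b else if l = 2 then c else if l = 3 then d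
  else if l = 4 then e else if l = 5 then s else if l = 6 then s⁻¹ else if l = 7 then t
  else if l = 8 then t⁻¹ else 1

/-- the value of a letter is the inverse of the letter -/
def gen (l : ℕ) : P := (lett (x 0) (x 1) (x 2) (x 3) (x 4) (x 5) (x 6) l)⁻¹

/-- inverse letters -/
def iv (l : ℕ) : ℕ :=
  if l = 5 then 6 else if l = 6 then 5 else if l = 7 then 8 else if l = 8 then 7 else l

theorem gen_iv (l : ℕ) : gen (iv l) = (gen l)⁻¹ := by
  have h := rels_x
  match l with
  | 0 => simpa [gen, lett, iv] using inv_eq_of_mul_eq_one_left h.aa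
  | 1 => simpa [gen, lett, iv] using inv_eq_of_mul_eq_one_left h.bb
  | 2 => simpa [gen, lett, iv] using inv_eq_of_mul_eq_one_left h.cc
  | 3 => simpa [gen, lett, iv] using inv_eq_of_mul_eq_one_left h.dd
  | 4 => simpa [gen, lett, iv] using inv_eq_of_mul_eq_one_left h.ee
  | 5 => simp [gen, lett, iv]
  | 6 => simp [gen, lett, iv]
  | 7 => simp [gen, lett, iv]
  | 8 => simp [gen, lett, iv]
  | k + 9 => simp [gen, lett, iv]

theorem closure_gen : Subgroup.closure (gen '' {l | l < 9}) = ⊤ := by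
  rw [eq_top_iff, ← closure_x, Subgroup.closure_le]
  have hg : ∀ l < 9, gen l ∈ Subgroup.closure (gen '' {l | l < 9}) :=
    fun l hl => Subgroup.subset_closure ⟨l, hl, rfl⟩
  rintro y (rfl | rfl | rfl | rfl | rfl | rfl | rfl)
  · simpa [gen, lett] using inv_mem (hg 0 (by norm_num))
  · simpa [gen, lett] using inv_mem (hg 1 (by norm_num))
  · simpa [gen, lett] using inv_mem (hg 2 (by norm_num))
  · simpa [gen, lett] using inv_mem (hg 3 (by norm_num))
  · simpa [gen, lett] using inv_mem (hg 4 (by norm_num))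
  · simpa [gen, lett] using inv_mem (hg 5 (by norm_num))
  · simpa [gen, lett] using inv_mem (hg 7 (by norm_num))

/-- a generator of the presented Thompson group -/
def thX (g : Cfsg.Spor.Th.Gen) : Cfsg.Spor.Th := PresentedGroup.of g

theorem rels_th :
    Rels (thX .a) (thX .b) (thX .c) (thX .d) (thX .e) (thX .s) (thX .t) := by
  have h : ∀ r ∈ Cfsg.Spor.Th.extra,
      PresentedGroup.mk (Cfsg.Spor.coxRelators Cfsg.Spor.Th.edges ∪ {r | r ∈ Cfsg.Spor.Th.extra}) r
        = 1 := fun r hr => PresentedGroup.one_of_mem (Or.inr hr)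
  simp only [Cfsg.Spor.Th.extra, List.forall_mem_cons, map_mul, map_inv, map_pow] at h
  obtain ⟨h1, h2, h3, h4, h5, h6, h7, h8, h9, h10, h11, h12, h13, h14, h15, h16, h17, h18, h19,
    h20, h21, h22, h23, h24, h25, h26, h27, -⟩ := h
  have cm : ∀ {u v : Cfsg.Spor.Th}, u⁻¹ * v⁻¹ * u * v = 1 → u * v = v * u := by
    intro u v huv
    have := congrArg (fun z => v * u * z) huv
    simpa [mul_assoc] using this
  refine ⟨?_, ?_, ?_, ?_, ?_, h6, h7, h8, h9, h10, mul_inv_eq_one.mp h11, h12, h13, h14, h15,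
    cm h16, cm h17, cm h18, h19, mul_inv_eq_one.mp h20, h21, cm h22, cm h23, cm h24, cm h25,
    cm h26, mul_inv_eq_one.mp h27⟩
  all_goals rw [← pow_two]
  exacts [h1, h2, h3, h4, h5]

/-- the images of the seven generators -/
def thImg : Fin 7 → Cfsg.Spor.Th :=
  ![thX .a, thX .b, thX .c, thX .d, thX .e, thX .s, thX .t]

/-- the map to the presented Thompson group -/
def iota : P →* Cfsg.Spor.Th :=
  PresentedGroup.toGroup (f := thImg) (by
    intro r hr
    have h := rels_th.relsOf_eq (FreeGroup.lift thImg r) ?_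
    · exact h
    · have e := map_relsOf (FreeGroup.lift thImg) (fg 0) (fg 1) (fg 2) (fg 3) (fg 4) (fg 5) (fg 6)
      simp only [FreeGroup.lift_apply_of] at e
      have hm := List.mem_map_of_mem (f := FreeGroup.lift thImg) hr
      rw [e] at hm
      exact hm)

theorem iota_x (i : Fin 7) : iota (x i) = thImg i := PresentedGroup.toGroup.of _

theorem iota_range :
    iota.range = Subgroup.closure
      ({thX .a, thX .b, thX .c, thX .d, thX .e, thX .s, thX .t} : Set Cfsg.Spor.Th) := by
  rw [MonoidHom.range_eq_map, ← closure_x, MonoidHom.map_closure]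
  congr 1
  simp [Set.image_insert_eq, Set.image_singleton, iota_x, thImg]

end H22Th
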