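import Cfsg.Agent.H22.Th.Bound
import Cfsg.Agent.H22.Th.Pres
import Cfsg.Agent.H22.Th.ModelData

/-!
The faithful action on 819 points of the group presented by the relations (1), (2), (3).
-/

set_option autoImplicit false
set_option maxRecDepth 100000

namespace H22Th

open H77.HN (run runK runK_eq evw Rep)

theorem table_lt : ∀ l < 9, ∀ p < 819, T819 l p < 819 ∧ T819 (iv l) (T819 l p) = p := by
  decide +kernel

theorem iv_iv (l : ℕ) : iv (iv l) = l := by
  unfold iv
  split_ifs <;> omega

theorem iv_lt {l : ℕ} (h : l < 9) : iv l < 9 := by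
  unfold iv
  split_ifs <;> omega

/-- the permutation `p ↦ p·l` -/
noncomputable def colPerm (l : ℕ) (hl : l < 9) : Equiv.Perm (Fin 819) where
  toFun p := ⟨T819 l p, (table_lt l hl p p.2).1⟩
  invFun p := ⟨T819 (iv l) p, (table_lt _ (iv_lt hl) p p.2).1⟩
  left_inv p := Fin.ext (table_lt l hl p p.2).2
  right_inv p := Fin.ext (by
    have h := (table_lt _ (iv_lt hl) p p.2).2
    rwa [iv_iv] at h)

/-- images of the generators: the inverse letter acts as its column -/
noncomputable def permX : Fin 7 → Equiv.Perm (Fin 819) :=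
  ![colPerm 0 (by decide), colPerm 1 (by decide), colPerm 2 (by decide), colPerm 3 (by decide),
    colPerm 4 (by decide), colPerm 6 (by decide), colPerm 8 (by decide)]

theorem rels_perm :
    Rels (permX 0) (permX 1) (permX 2) (permX 3) (permX 4) (permX 5) (permX 6) := by
  constructor
  all_goals refine Equiv.ext fun p => ?_
  all_goals (revert p; decide +kernel)

/-- the action -/
noncomputable def act : P →* Equiv.Perm (Fin 819) :=
  PresentedGroup.toGroup (f := permX) (by
    intro r hr
    refine rels_perm.relsOf_eq (FreeGroup.lift permX r) ?_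
    have e := map_relsOf (FreeGroup.lift permX) (fg 0) (fg 1) (fg 2) (fg 3) (fg 4) (fg 5) (fg 6)
    simp only [FreeGroup.lift_apply_of] at e
    have hm := List.mem_map_of_mem (f := FreeGroup.lift permX) hr
    rw [e] at hm
    exact hm)

theorem act_x (i : Fin 7) : act (x i) = permX i := PresentedGroup.toGroup.of _

theorem colPerm_inv (l : ℕ) (hl : l < 9) : (colPerm l hl)⁻¹ = colPerm (iv l) (iv_lt hl) := by
  refine Equiv.ext fun p => ?_
  rw [Equiv.Perm.inv_eq_iff_eq]
  refine Fin.ext ?_
  have h := (table_lt _ (iv_lt hl) p p.2).2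
  rw [iv_iv] at h
  exact h.symm

theorem act_gen (l : ℕ) (hl : l < 9) : act (gen l) = colPerm l hl := by
  have key : ∀ (i : Fin 7) (k : ℕ) (hk : k < 9), permX i = colPerm k hk →
      act (x i)⁻¹ = colPerm (iv k) (iv_lt hk) ∧ act (x i) = colPerm k hk := fun i k hk h =>
    ⟨by rw [map_inv, act_x, h, colPerm_inv], by rw [act_x, h]⟩
  interval_cases l
  · exact (key 0 0 (by norm_num) rfl).1
  · exact (key 1 1 (by norm_num) rfl).1
  · exact (key 2 2 (by norm_num) rfl).1
  · exact (key 3 3 (by norm_num) rfl).1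
  · exact (key 4 4 (by norm_num) rfl).1
  · exact (key 5 6 (by norm_num) rfl).1
  · rw [show gen 6 = x 5 by simp [gen, lett]]; exact (key 5 6 (by norm_num) rfl).2
  · exact (key 6 8 (by norm_num) rfl).1
  · rw [show gen 8 = x 6 by simp [gen, lett]]; exact (key 6 8 (by norm_num) rfl).2

/-- the table, trivial beyond the nine letters -/
noncomputable def Tact (l p : ℕ) : ℕ := bif decide (l < 9) then T819 l p else p

theorem Tact_eq {l : ℕ} (hl : l < 9) (p : ℕ) : Tact l p = T819 l p := by
  simp [Tact, hl]

/-- the action as a table action -/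
noncomputable def rep : Rep gen 819 Tact where
  φ := act
  spec l p := by
    by_cases hl : l < 9
    · rw [act_gen l hl, Tact_eq hl]; rfl
    · have : gen l = 1 := by
        have : lett (x 0) (x 1) (x 2) (x 3) (x 4) (x 5) (x 6) l = 1 := by
          unfold lett
          split_ifs <;> first | rfl | omega
        simp [gen, this]
      rw [this, map_one]
      simp [Tact, hl]

/-- entries of a packed list -/
noncomputable def getw (v w i : ℕ) : ℕ := Nat.land (Nat.shiftRight v (w * i)) (2 ^ w - 1)

/-- a level of the chain -/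
noncomputable def levelChk (x : ℕ) (fixed : List ℕ) (ws : List (List ℕ)) (pts pos rec L : ℕ) :
    Bool :=
  ws.all (fun w => fixed.all fun p => Nat.beq (runK Tact w p) p) && Nat.beq (getw pts 16 0) x &&
    (List.range L).all fun i =>
      Nat.blt (getw pts 16 i) 819 && Nat.beq (getw pos 16 (getw pts 16 i)) i &&
        (Nat.beq i 0 || (Nat.blt (getw rec 24 i / 256) i &&
          Nat.blt (getw rec 24 i % 256) ws.length &&
          Nat.beq (runK Tact (ws.getD (getw rec 24 i % 256) []) (getw pts 16 (getw rec 24 i / 256)))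
            (getw pts 16 i)))

/-- the elements fixing some points -/
noncomputable def fixAll (pts : List ℕ) : Subgroup P where
  carrier := {g | ∀ p : Fin 819, (p : ℕ) ∈ pts → act g p = p}
  one_mem' := fun p _ => by simp
  mul_mem' := fun {g h} hg hh p hp => by rw [map_mul, Equiv.Perm.mul_apply, hh p hp, hg p hp]
  inv_mem' := fun {g} hg p hp => by rw [map_inv, Equiv.Perm.inv_eq_iff_eq, hg p hp]

theorem finite_P : Finite P := by
  obtain ⟨h, -⟩ := rels_x.bound_N
  rw [closure_x] at h
  exact Finite.of_equiv _ Subgroup.topEquiv.toEquiv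

instance : Finite P := finite_P

theorem card_le : Nat.card P ≤ 634023936 := by
  obtain ⟨-, h⟩ := rels_x.bound_N
  rw [closure_x, Nat.card_congr Subgroup.topEquiv.toEquiv] at h
  exact h

theorem level_step {x : ℕ} {fixed : List ℕ} {ws : List (List ℕ)} {pts pos rec L : ℕ}
    (hx : x < 819) (h : levelChk x fixed ws pts pos rec L = true) :
    L * Nat.card (fixAll (x :: fixed)) ≤ Nat.card (fixAll fixed) := by
  simp only [levelChk, Bool.and_eq_true, List.all_eq_true, Nat.beq_eq, Bool.or_eq_true,
    List.mem_range, runK_eq, Nat.blt, Nat.ble_eq] at h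
  obtain ⟨⟨hw, h0⟩, hall⟩ := h
  have hwmem : ∀ w ∈ ws, evw gen w ∈ fixAll fixed := fun w hw' p hp => Fin.ext (by
    exact (rep.evw_apply w p).trans (hw w hw' _ hp))
  have hreach : ∀ i < L, ∃ g ∈ fixAll fixed, (act g ⟨x, hx⟩ : ℕ) = getw pts 16 i := by
    intro i
    induction i using Nat.strong_induction_on with
    | _ i ih =>
      intro hi
      obtain ⟨⟨hlt, -⟩, hc⟩ := hall i hi
      rcases hc with rfl | ⟨⟨hp, hk⟩, hrun⟩
      · exact ⟨1, one_mem _, by simp [h0]⟩
      · have hp' : getw rec 24 i / 256 < i := hp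
        obtain ⟨g, hg, hgx⟩ := ih _ hp' (hp'.trans hi)
        have hmem : ws.getD (getw rec 24 i % 256) [] ∈ ws := by
          rw [List.getD_eq_getElem _ _ hk]; exact List.getElem_mem hk
        refine ⟨evw gen (ws.getD (getw rec 24 i % 256) []) * g, mul_mem (hwmem _ hmem) hg, ?_⟩
        rw [map_mul, Equiv.Perm.mul_apply]
        have e := rep.evw_apply (ws.getD (getw rec 24 i % 256) []) (act g ⟨x, hx⟩)
        rw [hgx, hrun] at e
        exact e
  choose g hg hgx using hreach
  let f : Fin L × fixAll (x :: fixed) → fixAll fixed := fun q =>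
    ⟨g q.1 q.1.2 * q.2, mul_mem (hg q.1 q.1.2)
      (fun p hp => q.2.2 p (List.mem_cons_of_mem _ hp))⟩
  have hf : Function.Injective f := by
    intro q r hqr
    have h1 : g q.1 q.1.2 * q.2 = g r.1 r.1.2 * r.2 := congrArg Subtype.val hqr
    have hfixx : ∀ z : fixAll (x :: fixed), act z ⟨x, hx⟩ = ⟨x, hx⟩ := fun z =>
      z.2 ⟨x, hx⟩ List.mem_cons_self
    have h2 : (act (g q.1 q.1.2) ⟨x, hx⟩ : ℕ) = act (g r.1 r.1.2) ⟨x, hx⟩ := by
      have h3 := congrArg (fun z => act z ⟨x, hx⟩) h1
      simp only [map_mul, Equiv.Perm.mul_apply, hfixx] at h3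
      rw [h3]
    rw [hgx, hgx] at h2
    have hq := (hall q.1 q.1.2).1.2
    rw [h2, (hall r.1 r.1.2).1.2] at hq
    obtain ⟨q1, q2⟩ := q
    obtain ⟨r1, r2⟩ := r
    obtain rfl : q1 = r1 := Fin.ext hq.symm
    exact Prod.ext rfl (Subtype.ext (mul_left_cancel h1))
  have := Nat.card_le_card_of_injective f hf
  rwa [Nat.card_prod, Nat.card_fin] at this

theorem chk0 : levelChk 0 [] lw0 lpts0 lpos0 lrec0 819 = true := by decide +kernel
theorem chk1 : levelChk 1 [0] lw1 lpts1 lpos1 lrec1 512 = true := by decide +kernel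
theorem chk2 : levelChk 50 [1, 0] lw2 lpts2 lpos2 lrec2 168 = true := by decide +kernel
theorem chk3 : levelChk 26 [50, 1, 0] lw3 lpts3 lpos3 lrec3 9 = true := by decide +kernel

theorem chain :
    819 * (512 * (168 * (9 * Nat.card (fixAll [26, 50, 1, 0])))) ≤ Nat.card P := by
  have h0 := level_step (by norm_num) chk0
  have h1 := level_step (by norm_num) chk1
  have h2 := level_step (by norm_num) chk2
  have h3 := level_step (by norm_num) chk3
  calc 819 * (512 * (168 * (9 * Nat.card (fixAll [26, 50, 1, 0]))))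
      ≤ 819 * (512 * (168 * Nat.card (fixAll [50, 1, 0]))) := by gcongr
    _ ≤ 819 * (512 * Nat.card (fixAll [1, 0])) := by gcongr
    _ ≤ 819 * Nat.card (fixAll [0]) := by gcongr
    _ ≤ Nat.card (fixAll []) := h0
    _ ≤ Nat.card P := Nat.card_le_card_of_injective _ Subtype.val_injective

theorem card_P : Nat.card P = 634023936 := by
  refine le_antisymm card_le ?_
  have hpos : 0 < Nat.card (fixAll [26, 50, 1, 0]) := Nat.card_pos
  calc 634023936 = 819 * (512 * (168 * (9 * 1))) := by norm_num
    _ ≤ 819 * (512 * (168 * (9 * Nat.card (fixAll [26, 50, 1, 0])))) := by gcongr; omega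
    _ ≤ Nat.card P := chain

theorem fixAll_eq_bot : fixAll [26, 50, 1, 0] = ⊥ := by
  rw [← Subgroup.card_eq_one]
  have h := chain
  rw [card_P] at h
  have hpos : 0 < Nat.card (fixAll [26, 50, 1, 0]) := Nat.card_pos
  omega

/-- the base -/
def B819 : List ℕ := [0, 1, 50, 26]

theorem rep_isBase : rep.IsBase B819 := by
  refine ⟨by decide, fun g hg => ?_⟩
  have hmem : g ∈ fixAll [26, 50, 1, 0] := fun p hp => hg p (by
    simp only [B819, List.mem_cons, List.not_mem_nil, or_false] at hp ⊢
    tauto)
  rw [fixAll_eq_bot] at hmem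
  exact hmem

theorem act_injective : Function.Injective act := by
  rw [injective_iff_map_eq_one]
  intro g hg
  exact rep_isBase.2 g (fun p _ => by change act g p = p; rw [hg]; rfl)

end H22Th
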