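import Cfsg.Prelude.Def_Exceptional
import Cfsg.Agent.H22.Th.Model
import Cfsg.Agent.H22.Th.SimpleData

/-!
The subgroup on a, b, c, d, e, s is simple of order 211341312; the whole group has trivial centre.
-/

set_option autoImplicit false
set_option maxRecDepth 100000

namespace H22Th

open H77.HN (run runK runK_eq evw agree Rep)

/-- the subgroup on a, b, c, d, e, s -/
def Lsub : Subgroup P := Subgroup.closure ({x 0, x 1, x 2, x 3, x 4, x 5} : Set P)

theorem x_mem {i : Fin 7} (hi : i ≠ 6) : x i ∈ Lsub := by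
  refine Subgroup.subset_closure ?_
  fin_cases i <;> simp_all

theorem gen_mem {l : ℕ} (hl : l < 7) : gen l ∈ Lsub := by
  interval_cases l
  · exact inv_mem (x_mem (i := 0) (by decide))
  · exact inv_mem (x_mem (i := 1) (by decide))
  · exact inv_mem (x_mem (i := 2) (by decide))
  · exact inv_mem (x_mem (i := 3) (by decide))
  · exact inv_mem (x_mem (i := 4) (by decide))
  · exact inv_mem (x_mem (i := 5) (by decide))
  · exact inv_mem (inv_mem (x_mem (i := 5) (by decide)))

theorem evw_mem {w : List ℕ} (hw : ∀ l ∈ w, l < 7) : evw gen w ∈ Lsub :=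
  H77.HN.evw_mem fun l hl => gen_mem (hw l hl)

theorem conj_t_mem {y : P} (hy : y ∈ Lsub) : x 6 * y * (x 6)⁻¹ ∈ Lsub := by
  have ht : (x 6)⁻¹ = x 6 * x 6 := inv_eq_of_mul_eq_one_right (by
    have := rels_x.t3
    rwa [pow_succ, pow_two, mul_assoc] at this)
  have h1 : ∀ z ∈ Lsub, (x 6)⁻¹ * z * x 6 ∈ Lsub := by
    intro z hz
    induction hz using Subgroup.closure_induction with
    | mem z hz =>
      have hfix : ∀ v : P, x 6 * v = v * x 6 → (x 6)⁻¹ * v * x 6 = v := fun v hv => by
        rw [mul_assoc, ← hv, inv_mul_cancel_left]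
      rcases hz with rfl | rfl | rfl | rfl | rfl | rfl
      · rw [hfix _ rels_x.ta]; exact x_mem (by decide)
      · rw [hfix _ rels_x.tb]; exact x_mem (by decide)
      · rw [hfix _ rels_x.tc]; exact x_mem (by decide)
      · rw [hfix _ rels_x.td]; exact x_mem (by decide)
      · rw [hfix _ rels_x.te]; exact x_mem (by decide)
      · rw [rels_x.ts]; exact pow_mem (x_mem (by decide)) _
    | one => simp
    | mul u v _ _ hu hv =>
      rw [show (x 6)⁻¹ * (u * v) * x 6 = ((x 6)⁻¹ * u * x 6) * ((x 6)⁻¹ * v * x 6) by group]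
      exact mul_mem hu hv
    | inv u _ hu =>
      rw [show (x 6)⁻¹ * u⁻¹ * x 6 = ((x 6)⁻¹ * u * x 6)⁻¹ by group]
      exact inv_mem hu
  have := h1 _ (h1 _ hy)
  rw [ht] at this ⊢
  have e : x 6 * x 6 * (x 6 * x 6 * y * x 6) * x 6 = x 6 * y * (x 6 * x 6) := by
    have h4 : x 6 * x 6 * (x 6 * x 6) = x 6 := by
      rw [← mul_assoc, show x 6 * x 6 * x 6 = 1 by
        rw [← rels_x.t3, pow_succ, pow_two], one_mul]
    simp only [← mul_assoc]
    rw [show x 6 * x 6 * x 6 * x 6 = x 6 by rw [← mul_assoc] at h4; exact h4]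
  rw [e] at this
  exact this

instance Lsub_normal : Lsub.Normal := by
  refine ⟨fun n hn g => ?_⟩
  have key : ∀ g ∈ Subgroup.closure ({x 0, x 1, x 2, x 3, x 4, x 5, x 6} : Set P),
      ∀ y ∈ Lsub, g * y * g⁻¹ ∈ Lsub := by
    intro g hg
    induction hg using Subgroup.closure_induction with
    | mem g hg =>
      intro y hy
      rcases hg with rfl | rfl | rfl | rfl | rfl | rfl | rfl
      rotate_right
      · exact conj_t_mem hy
      all_goals exact mul_mem (mul_mem (x_mem (by decide)) hy) (inv_mem (x_mem (by decide)))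
    | one => intro y hy; simpa using hy
    | mul u v _ _ hu hv =>
      intro y hy
      rw [show u * v * y * (u * v)⁻¹ = u * (v * y * v⁻¹) * u⁻¹ by group]
      exact hu _ (hv y hy)
    | inv u _ hu =>
      intro y hy
      let f : Lsub → Lsub := fun z => ⟨u * z * u⁻¹, hu z z.2⟩
      have hf : Function.Injective f := fun z z' h => Subtype.ext (by
        simpa [f] using h)
      obtain ⟨z, hz⟩ := (Finite.injective_iff_surjective.mp hf) ⟨y, hy⟩
      have hz' : u * z * u⁻¹ = y := congrArg Subtype.val hz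
      rw [← hz', inv_inv, show u⁻¹ * (u * (z : P) * u⁻¹) * u = z by group]
      exact z.2
  exact key g (closure_x ▸ Subgroup.mem_top g) n hn

theorem card_Lsub : Nat.card Lsub = 211341312 := by
  have hle : Nat.card Lsub ≤ 211341312 := rels_x.bound_N0.2
  have hq : Nat.card (P ⧸ Lsub) ≤ 3 := by
    let f : Fin 3 → P ⧸ Lsub := fun i => (QuotientGroup.mk' Lsub (x 6)) ^ (i : ℕ)
    refine (Nat.card_le_card_of_surjective f fun q => ?_).trans (by simp)
    obtain ⟨g, rfl⟩ := QuotientGroup.mk'_surjective Lsub q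
    have hz : QuotientGroup.mk' Lsub g ∈ Subgroup.zpowers (QuotientGroup.mk' Lsub (x 6)) := by
      have hg : g ∈ Subgroup.closure ({x 0, x 1, x 2, x 3, x 4, x 5, x 6} : Set P) :=
        closure_x ▸ Subgroup.mem_top g
      rw [← Subgroup.mem_comap]
      refine (Subgroup.closure_le _).mpr ?_ hg
      have hker : ∀ v ∈ Lsub,
          QuotientGroup.mk' Lsub v ∈ Subgroup.zpowers (QuotientGroup.mk' Lsub (x 6)) := fun v hv => by
        rw [show QuotientGroup.mk' Lsub v = 1 from (QuotientGroup.eq_one_iff v).mpr hv]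
        exact one_mem _
      rintro y (rfl | rfl | rfl | rfl | rfl | rfl | rfl)
      rotate_right
      · exact Subgroup.mem_zpowers _
      all_goals exact Subgroup.mem_comap.mpr (hker _ (x_mem (by decide)))
    have h3 : (QuotientGroup.mk' Lsub (x 6)) ^ 3 = 1 := by rw [← map_pow, rels_x.t3, map_one]
    obtain ⟨m, hm⟩ := Subgroup.mem_zpowers_iff.mp hz
    refine ⟨⟨(m % 3).toNat, by omega⟩, ?_⟩
    show (QuotientGroup.mk' Lsub (x 6)) ^ (m % 3).toNat = _
    rw [← hm, ← zpow_natCast, Int.toNat_of_nonneg (Int.emod_nonneg _ (by norm_num))]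
    exact (zpow_eq_zpow_emod' m h3).symm
  have hmul := Subgroup.card_eq_card_quotient_mul_card_subgroup Lsub
  rw [card_P] at hmul
  have : Nat.card (P ⧸ Lsub) * Nat.card Lsub ≤ 3 * Nat.card Lsub := Nat.mul_le_mul_right _ hq
  omega

theorem card_orbit_chk0 :
    levelChk 1 [0] [[0], [2], [3], [4], [5]] opts0 opos0 orec0 512 = true := by decide +kernel
theorem card_orbit_chk1 :
    levelChk 6 [0] [[0], [2], [3], [4], [5]] opts1 opos1 orec1 18 = true := by decide +kernel
theorem card_orbit_chk2 :
    levelChk 13 [0] [[0], [2], [3], [4], [5]] opts2 opos2 orec2 288 = true := by decide +kernel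

/-- orbit number of a point other than 0 -/
noncomputable def cover (p : ℕ) : Bool :=
  (decide (getw opos0 16 p < 512) && Nat.beq (getw opts0 16 (getw opos0 16 p)) p) ||
    (decide (getw opos1 16 p < 18) && Nat.beq (getw opts1 16 (getw opos1 16 p)) p) ||
    (decide (getw opos2 16 p < 288) && Nat.beq (getw opts2 16 (getw opos2 16 p)) p)

theorem cover_ok : ∀ p < 819, p ≠ 0 → cover p = true := by decide +kernel

/-- the stabiliser subgroup used -/
def H0sub : Subgroup P := Subgroup.closure {gen 0, gen 2, gen 3, gen 4, gen 5}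

theorem H0sub_le : H0sub ≤ Lsub := by
  rw [H0sub, Subgroup.closure_le]
  rintro y (rfl | rfl | rfl | rfl | rfl) <;> exact gen_mem (by norm_num)

theorem H0sub_fix {g : P} (hg : g ∈ H0sub) : act g ⟨0, by norm_num⟩ = ⟨0, by norm_num⟩ := by
  induction hg using Subgroup.closure_induction with
  | mem g hg =>
    have h : ∀ l ∈ [0, 2, 3, 4, 5], Tact l 0 = 0 := by decide +kernel
    rcases hg with rfl | rfl | rfl | rfl | rfl
    all_goals exact Fin.ext ((rep.spec _ _).trans (h _ (by simp)))
  | one => simp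
  | mul u v _ _ hu hv => rw [map_mul, Equiv.Perm.mul_apply, hv, hu]
  | inv u _ hu => rw [map_inv, Equiv.Perm.inv_eq_iff_eq, hu]

theorem orbit_reach {x : ℕ} {pts pos rec L : ℕ} (hx : x < 819)
    (h : levelChk x [0] [[0], [2], [3], [4], [5]] pts pos rec L = true) :
    ∀ i < L, (∃ g ∈ H0sub, (act g ⟨x, hx⟩ : ℕ) = getw pts 16 i) ∧ getw pts 16 i < 819 ∧
      getw pos 16 (getw pts 16 i) = i := by
  simp only [levelChk, Bool.and_eq_true, List.all_eq_true, Nat.beq_eq, Bool.or_eq_true,
    List.mem_range, runK_eq, Nat.blt, Nat.ble_eq] at h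
  obtain ⟨⟨-, h0⟩, hall⟩ := h
  have hmem : ∀ w ∈ [[0], [2], [3], [4], [5]], evw gen w ∈ H0sub := by
    intro w hw
    simp only [List.mem_cons, List.not_mem_nil, or_false] at hw
    rcases hw with rfl | rfl | rfl | rfl | rfl <;>
      exact Subgroup.subset_closure (by simp)
  intro i hi
  refine ⟨?_, (hall i hi).1.1, (hall i hi).1.2⟩
  induction i using Nat.strong_induction_on with
  | _ i ih =>
    obtain ⟨-, hc⟩ := hall i hi
    rcases hc with rfl | ⟨⟨hp, hk⟩, hrun⟩
    · exact ⟨1, one_mem _, by simp [h0]⟩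
    · have hp' : getw rec 24 i / 256 < i := hp
      obtain ⟨g, hg, hgx⟩ := ih _ hp' (hp'.trans hi)
      have hm : [[0], [2], [3], [4], [5]].getD (getw rec 24 i % 256) [] ∈
          [[0], [2], [3], [4], [5]] := by
        rw [List.getD_eq_getElem _ _ hk]; exact List.getElem_mem hk
      refine ⟨evw gen _ * g, mul_mem (hmem _ hm) hg, ?_⟩
      rw [map_mul, Equiv.Perm.mul_apply]
      have e := rep.evw_apply ([[0], [2], [3], [4], [5]].getD (getw rec 24 i % 256) [])
        (act g ⟨x, hx⟩)
      rw [hgx, hrun] at e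
      exact e

/-- the orbit of a point -/
noncomputable def orbitNo (p : ℕ) : ℕ :=
  bif Nat.beq p 0 then 3
  else bif decide (getw opos0 16 p < 512) && Nat.beq (getw opts0 16 (getw opos0 16 p)) p then 0
  else bif decide (getw opos1 16 p < 18) && Nat.beq (getw opts1 16 (getw opos1 16 p)) p then 1
  else 2

/-- the root of an orbit -/
def root (k : ℕ) : Fin 819 := if k = 0 then 1 else if k = 1 then 6 else 13

/-- a point is reached from its root by the stabiliser subgroup -/
theorem reach_root {p : Fin 819} (hp : (p : ℕ) ≠ 0) :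
    ∃ g ∈ H0sub, act g (root (orbitNo p)) = p := by
  have hc := cover_ok p p.2 hp
  have key : ∀ (x pts pos rec L : ℕ) (hx : x < 819),
      levelChk x [0] [[0], [2], [3], [4], [5]] pts pos rec L = true →
      getw pos 16 p < L → getw pts 16 (getw pos 16 p) = p →
      ∃ g ∈ H0sub, act g ⟨x, hx⟩ = p := by
    intro x pts pos rec L hx h hi hip
    obtain ⟨g, hg, hgp⟩ := (orbit_reach hx h _ hi).1
    rw [hip] at hgp
    exact ⟨g, hg, Fin.ext hgp⟩
  have b0 : Nat.beq (p : ℕ) 0 = false :=
    Bool.eq_false_iff.mpr fun h => hp (Nat.eq_of_beq_eq_true h)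
  simp only [cover, Bool.or_eq_true] at hc
  simp only [orbitNo, b0, cond_false]
  cases e0 : (decide (getw opos0 16 p < 512) &&
      Nat.beq (getw opts0 16 (getw opos0 16 p)) p) with
  | true =>
    simp only [Bool.and_eq_true, decide_eq_true_eq, Nat.beq_eq] at e0
    exact key 1 _ _ _ _ (by norm_num) card_orbit_chk0 e0.1 e0.2
  | false =>
    cases e1 : (decide (getw opos1 16 p < 18) &&
        Nat.beq (getw opts1 16 (getw opos1 16 p)) p) with
    | true =>
      simp only [Bool.and_eq_true, decide_eq_true_eq, Nat.beq_eq] at e1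
      exact key 6 _ _ _ _ (by norm_num) card_orbit_chk1 e1.1 e1.2
    | false =>
      rw [e0, e1] at hc
      simp only [Bool.false_eq_true, false_or, Bool.and_eq_true, decide_eq_true_eq,
        Nat.beq_eq] at hc
      exact key 13 _ _ _ _ (by norm_num) card_orbit_chk2 hc.1 hc.2

theorem orbit_sizes :
    ((List.finRange 819).filter fun p : Fin 819 => Nat.beq (orbitNo p) 0).length = 512 ∧
    ((List.finRange 819).filter fun p : Fin 819 => Nat.beq (orbitNo p) 1).length = 18 ∧
    ((List.finRange 819).filter fun p : Fin 819 => Nat.beq (orbitNo p) 2).length = 288 ∧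
    ((List.finRange 819).filter fun p : Fin 819 => Nat.beq (orbitNo p) 3).length = 1 := by
  decide +kernel

theorem orbitNo_lt (p : ℕ) : orbitNo p < 4 := by
  unfold orbitNo
  cases Nat.beq p 0 <;>
    cases decide (getw opos0 16 p < 512) && Nat.beq (getw opts0 16 (getw opos0 16 p)) p <;>
    cases decide (getw opos1 16 p < 18) && Nat.beq (getw opts1 16 (getw opos1 16 p)) p <;> simp

theorem card_orbitNo (k : ℕ) :
    (Finset.univ.filter fun p : Fin 819 => orbitNo p = k).card =
      ((List.finRange 819).filter fun p : Fin 819 => Nat.beq (orbitNo p) k).length := by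
  rw [← List.toFinset_card_of_nodup ((List.nodup_finRange 819).filter _)]
  congr 1
  ext p
  simp [Nat.beq_eq]

/-- an invariant set meets each orbit in nothing or everything -/
theorem invariant_card {S : Finset (Fin 819)}
    (hS : ∀ g ∈ H0sub, ∀ p ∈ (S : Set (Fin 819)), act g p ∈ (S : Set (Fin 819))) :
    ∃ c0 c1 c2 c3, S.card = c0 + c1 + c2 + c3 ∧ (c0 = 0 ∨ c0 = 512) ∧ (c1 = 0 ∨ c1 = 18) ∧
      (c2 = 0 ∨ c2 = 288) ∧ (c3 = 0 ∨ c3 = 1) ∧
        ((⟨0, by norm_num⟩ : Fin 819) ∈ S → c3 = 1) := by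
  have part : ∀ k, (S.filter fun p : Fin 819 => orbitNo p = k) = ∅ ∨
      (S.filter fun p : Fin 819 => orbitNo p = k) =
        Finset.univ.filter fun p : Fin 819 => orbitNo p = k := by
    intro k
    rcases (S.filter fun p : Fin 819 => orbitNo p = k).eq_empty_or_nonempty with h | ⟨p, hp⟩
    · exact Or.inl h
    · refine Or.inr (Finset.Subset.antisymm (Finset.filter_subset_filter _ (Finset.subset_univ _))
        fun q hq => ?_)
      rw [Finset.mem_filter] at hp hq ⊢
      refine ⟨?_, hq.2⟩
      by_cases hp0 : (p : ℕ) = 0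
      · by_cases hq0 : (q : ℕ) = 0
        · rw [show q = p from Fin.ext (hq0.trans hp0.symm)]; exact hp.1
        · exfalso
          have hk3 : k = 3 := by rw [← hp.2, hp0]; rfl
          have : orbitNo q ≠ 3 := by
            unfold orbitNo
            rw [Bool.eq_false_iff.mpr fun h => hq0 (Nat.eq_of_beq_eq_true h)]
            cases decide (getw opos0 16 q < 512) &&
                Nat.beq (getw opts0 16 (getw opos0 16 q)) q <;>
              cases decide (getw opos1 16 q < 18) &&
                Nat.beq (getw opts1 16 (getw opos1 16 q)) q <;> simp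
          exact this (hq.2.trans hk3)
      · have hq0 : (q : ℕ) ≠ 0 := by
          intro hq0
          have hk3 : k = 3 := by rw [← hq.2, hq0]; rfl
          have : orbitNo p ≠ 3 := by
            unfold orbitNo
            rw [Bool.eq_false_iff.mpr fun h => hp0 (Nat.eq_of_beq_eq_true h)]
            cases decide (getw opos0 16 p < 512) &&
                Nat.beq (getw opts0 16 (getw opos0 16 p)) p <;>
              cases decide (getw opos1 16 p < 18) &&
                Nat.beq (getw opts1 16 (getw opos1 16 p)) p <;> simp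
          exact this (hp.2.trans hk3)
        obtain ⟨g, hg, hgp⟩ := reach_root hp0
        obtain ⟨g', hg', hgq⟩ := reach_root hq0
        rw [hp.2] at hgp
        rw [hq.2] at hgq
        have := hS (g' * g⁻¹) (mul_mem hg' (inv_mem hg)) p (Finset.mem_coe.mpr hp.1)
        rw [map_mul, Equiv.Perm.mul_apply, map_inv, Equiv.Perm.inv_eq_iff_eq.mpr hgp.symm,
          hgq] at this
        exact this
  refine ⟨(S.filter fun p : Fin 819 => orbitNo p = 0).card,
    (S.filter fun p : Fin 819 => orbitNo p = 1).card,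
    (S.filter fun p : Fin 819 => orbitNo p = 2).card,
    (S.filter fun p : Fin 819 => orbitNo p = 3).card, ?_, ?_, ?_, ?_, ?_, ?_⟩
  · rw [Finset.card_eq_sum_card_fiberwise (f := fun p : Fin 819 => orbitNo p)
      (t := Finset.range 4) (fun p _ => Finset.mem_range.mpr (orbitNo_lt p))]
    simp [Finset.sum_range_succ]
  · rcases part 0 with h | h <;> rw [h]
    · exact Or.inl rfl
    · exact Or.inr ((card_orbitNo 0).trans orbit_sizes.1)
  · rcases part 1 with h | h <;> rw [h]
    · exact Or.inl rfl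
    · exact Or.inr ((card_orbitNo 1).trans orbit_sizes.2.1)
  · rcases part 2 with h | h <;> rw [h]
    · exact Or.inl rfl
    · exact Or.inr ((card_orbitNo 2).trans orbit_sizes.2.2.1)
  · rcases part 3 with h | h <;> rw [h]
    · exact Or.inl rfl
    · exact Or.inr ((card_orbitNo 3).trans orbit_sizes.2.2.2)
  · intro h0
    rcases part 3 with h | h
    · have hm : (⟨0, by norm_num⟩ : Fin 819) ∈ S.filter fun p : Fin 819 => orbitNo p = 3 :=
        Finset.mem_filter.mpr ⟨h0, rfl⟩
      rw [h] at hm
      exact absurd hm (Finset.notMem_empty _)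
    · rw [h]; exact (card_orbitNo 3).trans orbit_sizes.2.2.2

/-- only the first point is fixed by the stabiliser subgroup -/
theorem eq_zero_of_fixed {p : Fin 819} (hp : ∀ g ∈ H0sub, act g p = p) : (p : ℕ) = 0 := by
  by_contra h0
  obtain ⟨c0, c1, c2, c3, hc, k0, k1, k2, k3, -⟩ := invariant_card (S := {p}) (fun g hg q hq => by
    rw [Finset.coe_singleton, Set.mem_singleton_iff] at hq ⊢
    rw [hq, hp g hg])
  rw [Finset.card_singleton] at hc
  have h3 : c3 = 1 ∧ c0 = 0 ∧ c1 = 0 ∧ c2 = 0 := by omega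
  obtain ⟨g, hg, hgp⟩ := reach_root h0
  have e : root (orbitNo p) = p := by
    have := hp g⁻¹ (inv_mem hg)
    rwa [map_inv, Equiv.Perm.inv_eq_iff_eq.mpr hgp.symm] at this
  have hbig : ∀ k ∈ [0, 1, 2], ∃ w ∈ [[0], [2], [3], [4], [5]],
      run Tact w (root k : ℕ) ≠ (root k : ℕ) := by decide +kernel
  have hk : orbitNo p ∈ [0, 1, 2] := by
    have h4 := orbitNo_lt p
    have : orbitNo p ≠ 3 := by
      unfold orbitNo
      rw [Bool.eq_false_iff.mpr fun h => h0 (Nat.eq_of_beq_eq_true h)]
      cases decide (getw opos0 16 p < 512) &&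
          Nat.beq (getw opts0 16 (getw opos0 16 p)) p <;>
        cases decide (getw opos1 16 p < 18) &&
          Nat.beq (getw opts1 16 (getw opos1 16 p)) p <;> simp
    simp only [List.mem_cons, List.not_mem_nil, or_false]
    omega
  obtain ⟨w, hw, hne⟩ := hbig _ hk
  have hmem : evw gen w ∈ H0sub := by
    simp only [List.mem_cons, List.not_mem_nil, or_false] at hw
    rcases hw with rfl | rfl | rfl | rfl | rfl <;> exact Subgroup.subset_closure (by simp)
  rw [e] at hne
  exact hne (by
    have e2 := rep.evw_apply w p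
    rw [show rep.φ (evw gen w) p = p from hp _ hmem] at e2
    exact e2.symm)

theorem word13_one : evw gen (List.replicate 13 w13).flatten = 1 := by
  rw [← H77.HN.evw_nil gen]
  exact rep.evw_eq_of_agree rep_isBase (by decide +kernel)

theorem word_a : evw gen ([1, 2, 3] ++ (List.replicate 2 w13).flatten ++ [3, 2, 1] ++
    ([1, 2, 3, 1] ++ (List.replicate 11 w13).flatten ++ [1, 3, 2, 1])) = gen 0 := by
  rw [← H77.HN.evw_singleton gen 0]
  exact rep.evw_eq_of_agree rep_isBase (by decide +kernel)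

theorem transitive (p : Fin 819) : ∃ g ∈ Lsub, act g ⟨0, by norm_num⟩ = p := by
  by_cases h0 : (p : ℕ) = 0
  · exact ⟨1, one_mem _, Fin.ext (by simp [h0])⟩
  obtain ⟨g, hg, hgp⟩ := reach_root h0
  have hw : ∀ k : ℕ, ∃ w : List ℕ, (∀ l ∈ w, l < 7) ∧ run Tact w 0 = (root k : ℕ) := by
    intro k
    unfold root
    split_ifs
    · exact ⟨[1], by decide, by decide +kernel⟩
    · exact ⟨[1, 0, 2, 1], by decide, by decide +kernel⟩
    · exact ⟨[1, 2, 3, 2, 1], by decide, by decide +kernel⟩
  obtain ⟨w, hw1, hw2⟩ := hw (orbitNo p)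
  refine ⟨g * evw gen w, mul_mem (H0sub_le hg) (evw_mem hw1), ?_⟩
  rw [map_mul, Equiv.Perm.mul_apply,
    show act (evw gen w) ⟨0, by norm_num⟩ = root (orbitNo p) from
      Fin.ext ((rep.evw_apply w _).trans hw2), hgp]

/-- a nontrivial subgroup normalised by the simple subgroup contains it -/
theorem le_of_normalized {N : Subgroup P} (hN : N ≤ Lsub)
    (hnorm : ∀ n ∈ N, ∀ g ∈ Lsub, g * n * g⁻¹ ∈ N) (hne : N ≠ ⊥) : Lsub ≤ N := by
  classical
  set M := N.subgroupOf Lsub with hM
  haveI : M.Normal := ⟨fun n hn g => hnorm _ hn g g.2⟩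
  have hcardM : Nat.card M = Nat.card N := Nat.card_congr (Subgroup.subgroupOfEquivOfLe hN).toEquiv
  have hdvd : Nat.card N ∣ 211341312 := card_Lsub ▸ Subgroup.card_dvd_of_le hN
  by_cases h13 : 13 ∣ Nat.card N
  · have hmul := Subgroup.card_eq_card_quotient_mul_card_subgroup M
    rw [card_Lsub, hcardM] at hmul
    have hco : Nat.Coprime 13 (Nat.card (Lsub ⧸ M)) := by
      rw [(by norm_num : Nat.Prime 13).coprime_iff_not_dvd]
      intro h
      have : 13 * 13 ∣ 211341312 := hmul ▸ mul_dvd_mul h h13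
      norm_num at this
    have hw : ∀ l ∈ w13, l < 7 := by decide
    let w : Lsub := ⟨evw gen w13, evw_mem hw⟩
    have hrep : ∀ n : ℕ, evw gen (List.replicate n w13).flatten = evw gen w13 ^ n := by
      intro n
      induction n with
      | zero => simp
      | succ n ih => rw [List.replicate_succ, List.flatten_cons, H77.HN.evw_append, ih, pow_succ]
    have hw13 : w ^ 13 = 1 := Subtype.ext (by
      show evw gen w13 ^ 13 = 1
      rw [← hrep, word13_one])
    have hwM : w ∈ M := by
      rw [← QuotientGroup.eq_one_iff]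
      have h1 : (QuotientGroup.mk w : Lsub ⧸ M) ^ 13 = 1 := by
        rw [← QuotientGroup.mk_pow, hw13]; rfl
      have h2 : orderOf (QuotientGroup.mk w : Lsub ⧸ M) ∣ 13 := orderOf_dvd_of_pow_eq_one h1
      exact orderOf_eq_one_iff.mp
        (Nat.eq_one_of_dvd_coprimes hco h2 (orderOf_dvd_natCard _))
    have hwN : evw gen w13 ∈ N := hwM
    have hiv : evw gen [1, 2, 3] = (evw gen [3, 2, 1])⁻¹ ∧
        evw gen [1, 2, 3, 1] = (evw gen [1, 3, 2, 1])⁻¹ :=
      ⟨(H77.HN.evw_invw gen_iv [3, 2, 1]), (H77.HN.evw_invw gen_iv [1, 3, 2, 1])⟩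
    have ha : gen 0 ∈ N := by
      rw [← word_a]
      simp only [H77.HN.evw_append, hrep, hiv.1, hiv.2]
      refine mul_mem ?_ ?_
      · rw [← mul_assoc]
        exact hnorm _ (pow_mem hwN _) _ (evw_mem (by decide))
      · rw [← mul_assoc]
        exact hnorm _ (pow_mem hwN _) _ (evw_mem (by decide))
    have h := rels_x
    let f : Lsub →* Lsub ⧸ M := QuotientGroup.mk' M
    have hq : ∀ i : Fin 7, ∀ hi : i ≠ 6, f ⟨x i, x_mem hi⟩ = 1 → x i ∈ N :=
      fun i hi hi' => (QuotientGroup.eq_one_iff (⟨x i, x_mem hi⟩ : Lsub)).mp hi'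
    have fa : f ⟨x 0, x_mem (by decide)⟩ = 1 := by
      refine (QuotientGroup.eq_one_iff _).mpr ?_
      show x 0 ∈ N
      simpa [gen, lett] using inv_mem ha
    set A := f ⟨x 0, x_mem (by decide)⟩
    set B := f ⟨x 1, x_mem (by decide)⟩
    set C := f ⟨x 2, x_mem (by decide)⟩
    set D := f ⟨x 3, x_mem (by decide)⟩
    set E := f ⟨x 4, x_mem (by decide)⟩
    set S := f ⟨x 5, x_mem (by decide)⟩
    have rel : ∀ {u v : Lsub}, (u : P) = v → f u = f v := fun hh => congrArg f (Subtype.ext hh)
    have qbb : B * B = 1 := by rw [← map_mul, ← map_one f]; exact rel h.bb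
    have qab : (A * B) ^ 3 = 1 := by rw [← map_mul, ← map_pow, ← map_one f]; exact rel h.ab
    have qcc : C * C = 1 := by rw [← map_mul, ← map_one f]; exact rel h.cc
    have qbc : (B * C) ^ 3 = 1 := by rw [← map_mul, ← map_pow, ← map_one f]; exact rel h.bc
    have qee : E * E = 1 := by rw [← map_mul, ← map_one f]; exact rel h.ee
    have qdd : D * D = 1 := by rw [← map_mul, ← map_one f]; exact rel h.dd
    have qde : (D * E) ^ 3 = 1 := by rw [← map_mul, ← map_pow, ← map_one f]; exact rel h.de
    have qbcde : (B * C * D * E) ^ 8 = 1 := by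
      rw [← map_mul, ← map_mul, ← map_mul, ← map_pow, ← map_one f]; exact rel h.bcde
    have qs7 : S ^ 7 = 1 := by rw [← map_pow, ← map_one f]; exact rel h.s7
    have qsd : (S * D) ^ 2 = 1 := by rw [← map_mul, ← map_pow, ← map_one f]; exact rel h.sd
    have qes : E⁻¹ * S⁻¹ * E * S = (S ^ 3)⁻¹ * E * S ^ 3 := by
      rw [← map_inv, ← map_inv, ← map_pow, ← map_inv, ← map_mul, ← map_mul, ← map_mul, ← map_mul,
        ← map_mul]
      exact rel h.es
    have hB : B = 1 := by
      rw [fa, one_mul] at qab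
      rwa [pow_succ, pow_two, qbb, one_mul] at qab
    have hC : C = 1 := by
      rw [hB, one_mul] at qbc
      rwa [pow_succ, pow_two, qcc, one_mul] at qbc
    have hDE : D = E := by
      rw [hB, hC, one_mul, one_mul] at qbcde
      have : D * E = 1 := by
        have e : (D * E) ^ 1 = 1 := by
          rw [show (1 : ℕ) = Nat.gcd 8 3 from rfl]
          exact pow_gcd_eq_one.mpr ⟨qbcde, qde⟩
        rwa [pow_one] at e
      rw [eq_inv_of_mul_eq_one_left this, inv_eq_of_mul_eq_one_left qee]
    have hES : E * S * E = S⁻¹ := by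
      rw [hDE, pow_two] at qsd
      refine eq_inv_of_mul_eq_one_left ?_
      calc E * S * E * S = E * (S * E * (S * E)) * E⁻¹ := by group
        _ = 1 := by rw [qsd]; group
    have hEinv : E⁻¹ = E := inv_eq_of_mul_eq_one_left qee
    have hcomm : E⁻¹ * S⁻¹ * E * S = S ^ 2 := by
      rw [hEinv, ← hES]
      calc E * (E * S * E) * E * S = (E * E) * S * (E * E) * S := by group
        _ = S ^ 2 := by rw [qee, one_mul, mul_one, pow_two]
    have hconj : (S ^ 3)⁻¹ * E = E * S ^ 3 := by
      have e1 : ∀ n : ℕ, E * S ^ n * E = (S ^ n)⁻¹ := by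
        intro n
        induction n with
        | zero => simpa using qee
        | succ n ih =>
          calc E * S ^ (n + 1) * E = E * S ^ n * (E * E) * S * E := by
                rw [qee, pow_succ]; group
            _ = (E * S ^ n * E) * (E * S * E) := by group
            _ = (S ^ (n + 1))⁻¹ := by rw [ih, hES, pow_succ']; group
      rw [← e1 3, mul_assoc, mul_assoc, qee, mul_one]
    rw [hcomm, hconj, mul_assoc, ← pow_add] at qes
    have hE : E = 1 := by
      have e2 : E = S ^ 3 := by
        calc E = S ^ 2 * (S ^ 6)⁻¹ := by rw [qes]; group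
          _ = S ^ 3 := by
            rw [mul_inv_eq_iff_eq_mul, ← pow_add,
              show 3 + 6 = 2 + 7 from rfl, pow_add, qs7, mul_one]
      have e3 : S ^ 6 = 1 := by rw [show 6 = 3 + 3 from rfl, pow_add, ← e2, qee]
      have e4 : S = 1 := by
        have e : S ^ 1 = 1 := by
          rw [show (1 : ℕ) = Nat.gcd 6 7 from rfl]
          exact pow_gcd_eq_one.mpr ⟨e3, qs7⟩
        rwa [pow_one] at e
      rw [e2, e4, one_pow]
    have hS : S = 1 := by
      rw [hE] at qes
      have e : S ^ 2 = S ^ (3 + 3) := by simpa using qes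
      have e5 : S ^ 4 = 1 := by
        have := congrArg (fun z => (S ^ 2)⁻¹ * z) e
        simpa [← pow_add, pow_succ, mul_assoc] using this.symm
      have e6 : S ^ 1 = 1 := by
        rw [show (1 : ℕ) = Nat.gcd 4 7 from rfl]
        exact pow_gcd_eq_one.mpr ⟨e5, qs7⟩
      rwa [pow_one] at e6
    rw [Lsub, Subgroup.closure_le]
    rintro y (rfl | rfl | rfl | rfl | rfl | rfl)
    · exact hq 0 (by decide) fa
    · exact hq 1 (by decide) hB
    · exact hq 2 (by decide) hC
    · exact hq 3 (by decide) (hDE.trans hE)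
    · exact hq 4 (by decide) hE
    · exact hq 5 (by decide) hS
  · exfalso
    let O : Finset (Fin 819) := Finset.univ.filter fun p => ∃ n ∈ N, act n ⟨0, by norm_num⟩ = p
    have hO : ∀ g ∈ H0sub, ∀ p ∈ (O : Set (Fin 819)), act g p ∈ (O : Set (Fin 819)) := by
      intro g hg p hp
      simp only [O, Finset.coe_filter, Finset.mem_univ, true_and, Set.mem_setOf_eq] at hp ⊢
      obtain ⟨n, hn, rfl⟩ := hp
      refine ⟨g * n * g⁻¹, hnorm n hn g (H0sub_le hg), ?_⟩
      rw [map_mul, map_mul, Equiv.Perm.mul_apply, Equiv.Perm.mul_apply,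
        H0sub_fix (inv_mem hg)]
    have h0O : (⟨0, by norm_num⟩ : Fin 819) ∈ O :=
      Finset.mem_filter.mpr ⟨Finset.mem_univ _, 1, one_mem _, by simp⟩
    have hOdvd : O.card ∣ Nat.card N := by
      letI : MulAction N (Fin 819) := MulAction.compHom _ (act.comp N.subtype)
      letI : Fintype N := Fintype.ofFinite N
      have h := MulAction.card_orbit_mul_card_stabilizer_eq_card_group N
        (⟨0, by norm_num⟩ : Fin 819)
      have hO' : O.card = Fintype.card (MulAction.orbit N (⟨0, by norm_num⟩ : Fin 819)) := by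
        rw [← Set.toFinset_card]
        congr 1
        ext p
        simp only [Set.mem_toFinset, O, Finset.mem_filter, Finset.mem_univ, true_and]
        constructor
        · rintro ⟨n, hn, rfl⟩; exact ⟨⟨n, hn⟩, rfl⟩
        · rintro ⟨⟨n, hn⟩, rfl⟩; exact ⟨n, hn, rfl⟩
      rw [Nat.card_eq_fintype_card, ← h, hO']
      exact dvd_mul_right _ _
    have hOdvd' : O.card ∣ 16257024 := by
      refine hOdvd.trans (Nat.Coprime.dvd_of_dvd_mul_right (n := 13) ?_ ?_)
      · exact Nat.Coprime.symm ((by norm_num : Nat.Prime 13).coprime_iff_not_dvd.mpr h13)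
      · simpa using hdvd
    obtain ⟨c0, c1, c2, c3, hc, k0, k1, k2, -, k3⟩ := invariant_card hO
    have h3 := k3 h0O
    have h1 : O.card = 1 := by
      have h8 : O.card = 1 ∨ O.card = 19 ∨ O.card = 289 ∨ O.card = 307 ∨ O.card = 513 ∨
          O.card = 531 ∨ O.card = 801 ∨ O.card = 819 := by omega
      rcases h8 with h | h | h | h | h | h | h | h
      all_goals first
        | exact h
        | (rw [h] at hOdvd'; norm_num at hOdvd')
    refine hne ((Subgroup.eq_bot_iff_forall N).mpr fun n hn => act_injective ?_)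
    rw [map_one]
    refine Equiv.ext fun p => ?_
    obtain ⟨g, hg, rfl⟩ := transitive p
    have hfix0 : act (g⁻¹ * n * g) ⟨0, by norm_num⟩ = ⟨0, by norm_num⟩ := by
      have hmem : g⁻¹ * n * g ∈ N := by
        have := hnorm n hn g⁻¹ (inv_mem hg); rwa [inv_inv] at this
      obtain ⟨q, hq⟩ := Finset.card_eq_one.mp h1
      have e1 : act (g⁻¹ * n * g) ⟨0, by norm_num⟩ ∈ O :=
        Finset.mem_filter.mpr ⟨Finset.mem_univ _, _, hmem, rfl⟩
      rw [hq, Finset.mem_singleton] at e1 h0O
      rw [e1, h0O]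
    simp only [map_mul, map_inv, Equiv.Perm.mul_apply, Equiv.Perm.inv_eq_iff_eq] at hfix0
    exact hfix0

theorem Lsub_simple : IsSimpleGroup Lsub := by
  haveI : Nontrivial Lsub := by
    rw [← Finite.one_lt_card_iff_nontrivial, card_Lsub]; norm_num
  refine ⟨fun M hM => ?_⟩
  by_cases h : M = ⊥
  · exact Or.inl h
  right
  have h' := le_of_normalized (N := M.map Lsub.subtype) (Subgroup.map_subtype_le _)
    (by
      rintro n ⟨m, hm, rfl⟩ g hg
      exact ⟨⟨g, hg⟩ * m * (⟨g, hg⟩ : Lsub)⁻¹, hM.conj_mem m hm _, rfl⟩)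
    (fun e => h ((Subgroup.map_eq_bot_iff_of_injective _ Lsub.subtype_injective).mp e))
  rw [eq_top_iff]
  intro y _
  obtain ⟨z, hz, hzy⟩ := h' y.2
  rwa [← Subtype.ext hzy]

theorem Lsub_is3D4 : Cfsg.Is3D4 Lsub :=
  ⟨Lsub_simple, 2, Nat.prime_two.isPrimePow, by rw [card_Lsub]; norm_num⟩

theorem center_eq_bot : Subgroup.center P = ⊥ := by
  rw [Subgroup.eq_bot_iff_forall]
  intro z hz
  refine act_injective ?_
  rw [map_one]
  have hcomm : ∀ g : P, ∀ p, act z (act g p) = act g (act z p) := fun g p => by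
    rw [← Equiv.Perm.mul_apply, ← map_mul, ← Subgroup.mem_center_iff.mp hz g, map_mul,
      Equiv.Perm.mul_apply]
  have h0 : act z ⟨0, by norm_num⟩ = ⟨0, by norm_num⟩ := by
    refine Fin.ext (eq_zero_of_fixed fun g hg => ?_)
    rw [← hcomm, H0sub_fix hg]
  refine Equiv.ext fun p => ?_
  obtain ⟨g, -, rfl⟩ := transitive p
  rw [hcomm, h0]; rfl

end H22Th
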