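import Cfsg.Agent.H22.Th.Pres
import Cfsg.Agent.H91.Th.Table

/-!
The action on 17199 points of the group presented by the relations (1), (2), (3).
-/

set_option autoImplicit false
set_option maxRecDepth 100000

namespace H22Th

open H77.HN (Rep)

namespace W17

/-- a property of all `p` in an interval of length `2 ^ k` -/
noncomputable def allR (f : ℕ → Bool) : ℕ → ℕ → Bool
  | 0, lo => f lo
  | k + 1, lo => allR f k lo && allR f k (lo + 2 ^ k)

theorem allR_spec {f : ℕ → Bool} : ∀ {k lo : ℕ}, allR f k lo = true →
    ∀ p, lo ≤ p → p < lo + 2 ^ k → f p = true := by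
  intro k
  induction k with
  | zero =>
    intro lo h p h1 h2
    have : p = lo := by simp at h2; omega
    subst this; simpa [allR] using h
  | succ k ih =>
    intro lo h p h1 h2
    simp only [allR, Bool.and_eq_true] at h
    rw [pow_succ] at h2
    by_cases hp : p < lo + 2 ^ k
    · exact ih h.1 p h1 hp
    · exact ih h.2 p (by omega) (by omega)

/-- the check of a column and its inverse column at a point -/
noncomputable def colChk (l p : ℕ) : Bool :=
  Nat.ble 17199 p || (Nat.blt (H91.Th.T9 l p) 17199 &&
    Nat.beq (H91.Th.T9 (iv l) (H91.Th.T9 l p)) p)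

theorem col0 : allR (colChk 0) 15 0 = true := by decide +kernel
theorem col1 : allR (colChk 1) 15 0 = true := by decide +kernel
theorem col2 : allR (colChk 2) 15 0 = true := by decide +kernel
theorem col3 : allR (colChk 3) 15 0 = true := by decide +kernel
theorem col4 : allR (colChk 4) 15 0 = true := by decide +kernel
theorem col5 : allR (colChk 5) 15 0 = true := by decide +kernel
theorem col6 : allR (colChk 6) 15 0 = true := by decide +kernel
theorem col7 : allR (colChk 7) 15 0 = true := by decide +kernel
theorem col8 : allR (colChk 8) 15 0 = true := by decide +kernel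

theorem table_lt {l p : ℕ} (hl : l < 9) (hp : p < 17199) :
    H91.Th.T9 l p < 17199 ∧ H91.Th.T9 (iv l) (H91.Th.T9 l p) = p := by
  have key : colChk l p = true := by
    have hp' : p < 0 + 2 ^ 15 := by omega
    interval_cases l
    · exact allR_spec col0 p (Nat.zero_le _) hp'
    · exact allR_spec col1 p (Nat.zero_le _) hp'
    · exact allR_spec col2 p (Nat.zero_le _) hp'
    · exact allR_spec col3 p (Nat.zero_le _) hp'
    · exact allR_spec col4 p (Nat.zero_le _) hp'
    · exact allR_spec col5 p (Nat.zero_le _) hp'
    · exact allR_spec col6 p (Nat.zero_le _) hp'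
    · exact allR_spec col7 p (Nat.zero_le _) hp'
    · exact allR_spec col8 p (Nat.zero_le _) hp'
  simp only [colChk, Bool.or_eq_true, Bool.and_eq_true, Nat.blt, Nat.ble_eq, Nat.beq_eq] at key
  rcases key with h | h
  · omega
  · exact h

theorem iv_iv (l : ℕ) : iv (iv l) = l := by
  unfold iv
  split_ifs <;> omega

theorem iv_lt {l : ℕ} (h : l < 9) : iv l < 9 := by
  unfold iv
  split_ifs <;> omega

/-- the permutation `p ↦ p·l` -/
noncomputable def colPerm (l : ℕ) (hl : l < 9) : Equiv.Perm (Fin 17199) where
  toFun p := ⟨H91.Th.T9 l p, (table_lt hl p.2).1⟩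
  invFun p := ⟨H91.Th.T9 (iv l) p, (table_lt (iv_lt hl) p.2).1⟩
  left_inv p := Fin.ext (table_lt hl p.2).2
  right_inv p := Fin.ext (by
    have h := (table_lt (iv_lt hl) p.2).2
    rwa [iv_iv] at h)

/-- images of the generators: the inverse letter acts as its column -/
noncomputable def permX : Fin 7 → Equiv.Perm (Fin 17199) :=
  ![colPerm 0 (by decide), colPerm 1 (by decide), colPerm 2 (by decide), colPerm 3 (by decide),
    colPerm 4 (by decide), colPerm 6 (by decide), colPerm 8 (by decide)]

/-- two permutations agree at a point given by a number -/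
noncomputable def eqChk (A B : Equiv.Perm (Fin 17199)) (p : ℕ) : Bool :=
  if h : p < 17199 then Nat.beq (A ⟨p, h⟩) (B ⟨p, h⟩) else true

theorem eq_of_chk {A B : Equiv.Perm (Fin 17199)} (h : allR (eqChk A B) 15 0 = true) : A = B := by
  refine Equiv.ext fun p => Fin.ext ?_
  have hk := allR_spec h (p : ℕ) (Nat.zero_le _) (by have := p.2; omega)
  simp only [eqChk, p.2, dite_true, Nat.beq_eq, Fin.eta] at hk
  exact hk

theorem rels_perm :
    Rels (permX 0) (permX 1) (permX 2) (permX 3) (permX 4) (permX 5) (permX 6) := by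
  constructor
  all_goals refine eq_of_chk ?_
  all_goals decide +kernel

/-- the action -/
noncomputable def act : P →* Equiv.Perm (Fin 17199) :=
  PresentedGroup.toGroup (f := permX) (by
    intro r hr
    refine rels_perm.relsOf_eq (FreeGroup.lift permX r) ?_
    have e := map_relsOf (FreeGroup.lift permX) (fg 0) (fg 1) (fg 2) (fg 3) (fg 4) (fg 5) (fg 6)
    simp only [FreeGroup.lift_apply_of] at e
    have hm := List.mem_map_of_mem (f := FreeGroup.lift permX) hr
    rw [e] at hm
    exact hm)

theorem act_x (i : Fin 7) : act (x i) = permX i := PresentedGroup.toGroup.of _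

theorem colPerm_inv (l : ℕ) (hl : l < 9) : (colPerm l hl)⁻¹ = colPerm (iv l) (iv_lt hl) := by
  refine Equiv.ext fun p => ?_
  rw [Equiv.Perm.inv_eq_iff_eq]
  refine Fin.ext ?_
  have h := (table_lt (iv_lt hl) p.2).2
  rw [iv_iv] at h
  exact h.symm

theorem act_gen (l : ℕ) (hl : l < 9) : act (gen l) = colPerm l hl := by
  have key : ∀ (i : Fin 7) (k : ℕ) (hk : k < 9), permX i = colPerm k hk →
      act (x i)⁻¹ = colPerm (iv k) (iv_lt hk) ∧ act (x i) = colPerm k hk := fun i k hk h =>
    ⟨by rw [map_inv, act_x, h, colPerm_inv], by rw [act_x, h]⟩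
  interval_cases l
  · exact (key 0 0 (by norm_num) rfl).1
  · exact (key 1 1 (by norm_num) rfl).1
  · exact (key 2 2 (by norm_num) rfl).1
  · exact (key 3 3 (by norm_num) rfl).1
  · exact (key 4 4 (by norm_num) rfl).1
  · exact (key 5 6 (by norm_num) rfl).1
  · rw [show gen 6 = x 5 by simp [gen, lett]]; exact (key 5 6 (by norm_num) rfl).2
  · exact (key 6 8 (by norm_num) rfl).1
  · rw [show gen 8 = x 6 by simp [gen, lett]]; exact (key 6 8 (by norm_num) rfl).2

theorem gen_eq_one {l : ℕ} (hl : 9 ≤ l) : gen l = 1 := by
  have : lett (x 0) (x 1) (x 2) (x 3) (x 4) (x 5) (x 6) l = 1 := by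
    unfold lett
    split_ifs <;> first | rfl | omega
  simp [gen, this]

end W17

/-- the action on 17199 points as a table action -/
noncomputable def rep17199 : Rep gen 17199 H91.Th.T9 where
  φ := W17.act
  spec l p := by
    by_cases hl : l < 9
    · rw [W17.act_gen l hl]; rfl
    · rw [W17.gen_eq_one (by omega), map_one]
      have h : Nat.blt l 9 = false := by
        rw [← Bool.not_eq_true, Nat.blt, Nat.ble_eq]; omega
      simp [H91.Th.T9, h]

end H22Th
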